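import Groth.Agent.DualBCLib.GorApps
import Groth.Agent.DualCxLib.DimFnLocal
import Groth.Agent.GorLib.Polynomial
import Groth.Agent.CatLib.Basic

/-!
# Rings with dualizing complexes are universally catenary
-/

set_option autoImplicit false
set_option linter.all false
set_option maxHeartbeats 1000000

universe u

open CategoryTheory CategoryTheory.Limits
open Groth.Agent
open scoped TensorProduct Polynomial

attribute [local instance] HasDerivedCategory.standard

noncomputable section

namespace DualBCLib

open Groth.Agent.DualCxLib FlatExtLib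

theorem length_eq_deg_sub {A : Type u} [CommRing A] [IsNoetherianRing A] {ω : Dual.D A}
    (hω : Dual.IsDualizing A ω) (l : LTSeries (PrimeSpectrum A))
    (hl : ∀ i : Fin l.length, l (Fin.castSucc i) ⋖ l (Fin.succ i)) :
    deg hω l.head + l.length = deg hω l.last := by
  have hinc : ∀ i : Fin (l.length + 1), deg hω l.head + i.1 = deg hω (l.toFun i) := fun i => by
    induction i using Fin.induction with
    | zero => simp [RelSeries.head]
    | succ i ih =>
      have h := deg_covBy hω (hl i)
      simp only [Fin.val_succ, Fin.val_castSucc] at ih ⊢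
      omega
  simpa [RelSeries.last] using hinc (Fin.last _)

/-- A ring with a dualizing complex is catenary. -/
theorem isCatenary_of_dualizing {A : Type u} [CommRing A] [IsNoetherianRing A] {ω : Dual.D A}
    (hω : Dual.IsDualizing A ω) : CAlg.IsCatenary A := by
  refine ⟨fun p q _ => ⟨(deg hω q - deg hω p).toNat, fun s hh hl => ?_⟩, fun s t hh hl hs ht => ?_⟩
  · have h := length_le_deg_sub hω s
    rw [hh, hl] at h
    omega
  · have h1 := length_eq_deg_sub hω s hs
    have h2 := length_eq_deg_sub hω t ht
    rw [hh, hl] at h1
    omega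

/-- A polynomial ring over a ring with a dualizing complex has one. -/
theorem exists_dualizing_mvPolynomial {A : Type u} [CommRing A] [IsNoetherianRing A] {ω : Dual.D A}
    (hω : Dual.IsDualizing A ω) (n : ℕ) :
    ∃ Z : Dual.D (MvPolynomial (Fin n) A), Dual.IsDualizing (MvPolynomial (Fin n) A) Z := by
  obtain ⟨Z, η, hη⟩ := exists_bc (S := MvPolynomial (Fin n) A) ω
  refine ⟨Z, isDualizing_of_gorenstein_fibres hω hη
    (dim_finiteType_lt_top (A := A) (Groth.Agent.DualCxLib.ringKrullDim_lt_top hω)) fun m => ?_⟩
  intro hm
  haveI := hm.isPrime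
  exact GorLib.gorenstein_fibre_loc (p := m.comap (algebraMap A (MvPolynomial (Fin n) A)))
    (GorLib.gorensteinRing_of_ringEquiv
      (MvPolynomial.algebraTensorAlgEquiv A
        (m.comap (algebraMap A (MvPolynomial (Fin n) A))).ResidueField).toRingEquiv
      (GorLib.gorensteinRing_mvPolynomial GorLib.gorensteinRing_of_field n)) m rfl

/-- A ring with a dualizing complex is universally catenary. -/
theorem isUniversallyCatenary_of_dualizing {A : Type u} [CommRing A] [IsNoetherianRing A] {ω : Dual.D A}
    (hω : Dual.IsDualizing A ω) : CAlg.IsUniversallyCatenary A :=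
  ⟨inferInstance, fun S _ _ hS => by
    obtain ⟨n, f, hf⟩ := Algebra.FiniteType.iff_quotient_mvPolynomial''.1 hS
    obtain ⟨Z, hZ⟩ := exists_dualizing_mvPolynomial hω n
    exact CatLib.isCatenary_of_surjective f.toRingHom hf (isCatenary_of_dualizing hZ)⟩

end DualBCLib
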