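import Groth.Agent.DualCxLib.LocApps
import Groth.Agent.DualCxLib.LocDualBase
import Groth.Agent.GorLib.Socle
import Mathlib.RingTheory.Ideal.Quotient.Operations

/-!
# From a Gorenstein quotient to the residue field

If `Ext(S/J, Z)` is one copy of `S/J` in one degree and `S/J` is Gorenstein, then `Ext(k, Z)` is one copy
of `k` in one degree.
-/

set_option autoImplicit false
set_option linter.all false
set_option maxHeartbeats 1000000

universe u

open CategoryTheory CategoryTheory.Limits
open Groth.Agent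
open DTenLib.Point (hH sg)

attribute [local instance] HasDerivedCategory.standard

noncomputable section

namespace DualBCLib

open Groth.Agent.DualCxLib

variable {S : Type u} [CommRing S] {Z : Dual.D S}

theorem extMap_smul_id (r : S) (M : ModuleCat.{u} S) (i : ℤ) (g : Ext Z M i) :
    extMap Z (r • 𝟙 M) i g = r • g := by
  show (DerivedCategory.singleFunctor (ModuleCat.{u} S) 0).map (r • 𝟙 M) ≫ g = r • g
  rw [Functor.map_smul, CategoryTheory.Functor.map_id, Linear.smul_comp, Category.id_comp]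

theorem smul_ext_eq_zero {I : Ideal S} {r : S} (hr : r ∈ I) (i : ℤ) (g : Ext Z (ModuleCat.of S (S ⧸ I)) i) :
    r • g = 0 := by
  have h0 : r • 𝟙 (ModuleCat.of S (S ⧸ I)) = 0 := ModuleCat.hom_ext (LinearMap.ext fun x => by
    obtain ⟨y, rfl⟩ := Submodule.Quotient.mk_surjective _ x
    show r • (Submodule.Quotient.mk y : S ⧸ I) = 0
    rw [← Submodule.Quotient.mk_smul, Submodule.Quotient.mk_eq_zero]
    exact I.mul_mem_right _ hr)
  rw [← extMap_smul_id, h0]
  show (DerivedCategory.singleFunctor (ModuleCat.{u} S) 0).map 0 ≫ g = 0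
  rw [Functor.map_zero, zero_comp]

/-- The sequence of a submodule. -/
theorem exists_ses {X : Type u} [AddCommGroup X] [Module S X] (N : Submodule S X) :
    (ShortComplex.mk (ModuleCat.ofHom N.subtype) (ModuleCat.ofHom N.mkQ)
      (ModuleCat.hom_ext (LinearMap.ext fun x => (Submodule.Quotient.mk_eq_zero N).2 x.2))).ShortExact :=
  { exact := (ShortComplex.moduleCat_exact_iff_range_eq_ker _).2 (by simp)
    mono_f := (ModuleCat.mono_iff_injective _).2 Subtype.val_injective
    epi_g := (ModuleCat.epi_iff_surjective _).2 N.mkQ_surjective }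

section Local

variable [IsLocalRing S]

theorem ext_simple_equiv {Q : Type u} [AddCommGroup Q] [Module S Q] (hQ : IsSimpleModule S Q) (i : ℤ) :
    Nonempty (Ext Z (ModuleCat.of S Q) i ≃ₗ[S]
      Ext Z (ModuleCat.of S (S ⧸ IsLocalRing.maximalIdeal S)) i) := by
  obtain ⟨m, hmax, ⟨e⟩⟩ := isSimpleModule_iff_quot_maximal.1 hQ
  obtain rfl : m = IsLocalRing.maximalIdeal S := IsLocalRing.eq_maximalIdeal hmax
  exact ⟨precompL ((DerivedCategory.singleFunctor (ModuleCat.{u} S) 0).mapIso e.toModuleIso) (Z⟦i⟧)⟩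

theorem subsingleton_finLen {i : ℤ}
    (hk : Subsingleton (Ext Z (ModuleCat.of S (S ⧸ IsLocalRing.maximalIdeal S)) i))
    {X : Type u} [AddCommGroup X] [Module S X] (hX : IsFiniteLength S X) :
    Subsingleton (Ext Z (ModuleCat.of S X) i) := by
  induction hX with
  | @of_subsingleton X _ _ _ =>
    have h0 : IsZero ((DerivedCategory.singleFunctor (ModuleCat.{u} S) 0).obj (ModuleCat.of S X)) :=
      Functor.map_isZero _ (ModuleCat.isZero_of_subsingleton _)
    exact ⟨fun f g => h0.eq_of_src f g⟩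
  | @of_simple_quotient X _ _ N hN _ ih =>
    obtain ⟨e⟩ := ext_simple_equiv (Z := Z) hN i
    exact subsingleton_ext₂ (exists_ses N) i ih e.toEquiv.subsingleton

theorem length_finLen {i : ℤ}
    (hk : Module.length S (Ext Z (ModuleCat.of S (S ⧸ IsLocalRing.maximalIdeal S)) i) ≤ 1)
    {X : Type u} [AddCommGroup X] [Module S X] (hX : IsFiniteLength S X) :
    Module.length S (Ext Z (ModuleCat.of S X) i) ≤ Module.length S X := by
  induction hX with
  | @of_subsingleton X _ _ _ =>
    have h0 : IsZero ((DerivedCategory.singleFunctor (ModuleCat.{u} S) 0).obj (ModuleCat.of S X)) :=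
      Functor.map_isZero _ (ModuleCat.isZero_of_subsingleton _)
    haveI : Subsingleton (Ext Z (ModuleCat.of S X) i) := ⟨fun f g => h0.eq_of_src f g⟩
    rw [Module.length_eq_zero]
    exact bot_le
  | @of_simple_quotient X _ _ N hN _ ih =>
    obtain ⟨e⟩ := ext_simple_equiv (Z := Z) hN i
    let gg : Ext Z (ModuleCat.of S (X ⧸ N)) i →ₗ[S] Ext Z (ModuleCat.of S X) i :=
      extMap Z (ModuleCat.ofHom N.mkQ) i
    let ff : Ext Z (ModuleCat.of S X) i →ₗ[S] Ext Z (ModuleCat.of S N) i :=
      extMap Z (ModuleCat.ofHom N.subtype) i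
    have hex : Function.Exact (LinearMap.range gg).subtype ff.rangeRestrict := fun f => by
      refine ⟨fun hf => ?_, fun ⟨y, hy⟩ => ?_⟩
      · obtain ⟨g, hg⟩ := exists_of_extMap_f_eq_zero (exists_ses N) i f (congrArg Subtype.val hf)
        exact ⟨⟨f, g, hg.symm⟩, rfl⟩
      · obtain ⟨-, g, rfl⟩ := y
        subst hy
        exact Subtype.ext (extMap_f_extMap_g Z (exists_ses N) i g)
    rw [Module.length_eq_add_of_exact (LinearMap.range gg).subtype ff.rangeRestrict
      (Submodule.injective_subtype _) (fun ⟨_, x, rfl⟩ => ⟨x, rfl⟩) hex,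
      Module.length_eq_add_of_exact N.subtype N.mkQ (Submodule.injective_subtype N) N.mkQ_surjective
        (LinearMap.exact_subtype_mkQ N), Module.length_eq_one_iff.2 hN, add_comm]
    gcongr
    · exact (Module.length_le_of_injective (LinearMap.range ff).subtype (Submodule.injective_subtype _)).trans ih
    · exact (Module.length_le_of_surjective gg.rangeRestrict fun ⟨_, x, rfl⟩ => ⟨x, rfl⟩).trans
        (e.length_eq.le.trans hk)

variable [IsNoetherianRing S]

/-- The artinian case. -/
theorem exists_line_artinian {a : ℤ} (ha : Z.IsGE a) (J : Ideal S) [IsArtinianRing (S ⧸ J)]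
    (hG : LocCoh.IsGorensteinLocalRing (S ⧸ J)) (d : ℤ)
    (hvan : ∀ i, i ≠ d → Subsingleton (Ext Z (ModuleCat.of S (S ⧸ J)) i))
    (line : Ext Z (ModuleCat.of S (S ⧸ J)) d ≃ₗ[S] (S ⧸ J)) :
    (∀ i, i ≠ d → Subsingleton (Ext Z (ModuleCat.of S (S ⧸ IsLocalRing.maximalIdeal S)) i)) ∧
      Nonempty (Ext Z (ModuleCat.of S (S ⧸ IsLocalRing.maximalIdeal S)) d ≃ₗ[S]
        (S ⧸ IsLocalRing.maximalIdeal S)) := by
  haveI := hG
  have hJm : J ≤ IsLocalRing.maximalIdeal S :=
    IsLocalRing.le_maximalIdeal (Ideal.Quotient.nontrivial_iff.1 inferInstance)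
  haveI hAl : IsArtinian S (S ⧸ J) := isArtinian_of_surjective_algebraMap (R := S ⧸ J) (S := S) Ideal.Quotient.mk_surjective
  have hRfl : IsFiniteLength S (S ⧸ J) :=
    isFiniteLength_iff_isNoetherian_isArtinian.2 ⟨inferInstance, hAl⟩
  let M1 : Submodule S (S ⧸ J) := LinearMap.ker (Submodule.factor hJm)
  let X : ShortComplex (ModuleCat.{u} S) := ShortComplex.mk (ModuleCat.ofHom M1.subtype)
    (ModuleCat.ofHom (Submodule.factor hJm) : ModuleCat.of S (S ⧸ J) ⟶ ModuleCat.of S (S ⧸ IsLocalRing.maximalIdeal S))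
    (ModuleCat.hom_ext (LinearMap.ext fun x => x.2))
  have hX : X.ShortExact :=
    { exact := (ShortComplex.moduleCat_exact_iff_range_eq_ker _).2 (Submodule.range_subtype _)
      mono_f := (ModuleCat.mono_iff_injective _).2 Subtype.val_injective
      epi_g := (ModuleCat.epi_iff_surjective _).2 (Submodule.factor_surjective hJm) }
  haveI : IsArtinian S M1 := inferInstance
  have hM1 : IsFiniteLength S M1 :=
    isFiniteLength_iff_isNoetherian_isArtinian.2 ⟨inferInstance, inferInstance⟩
  have hlow : ∀ (n : ℕ) (i : ℤ), i < a + n → i < d →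
      Subsingleton (Ext Z (ModuleCat.of S (S ⧸ IsLocalRing.maximalIdeal S)) i) := by
    intro n
    induction n with
    | zero =>
      intro i hi _
      refine subsingleton_of_forall_eq 0 fun f => ?_
      haveI := DerivedCategory.TStructure.t.isGE_shift Z a i (a - i) (by omega)
      exact DerivedCategory.TStructure.t.zero f 0 (a - i) (by omega)
    | succ n ih =>
      intro i hi hid
      exact subsingleton_ext₃ hX i (i - 1) (by omega)
        (subsingleton_finLen (ih (i - 1) (by push_cast at hi; omega) (by omega)) hM1) (hvan i (by omega))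
  have hM1low : Subsingleton (Ext Z X.X₁ (d - 1)) :=
    subsingleton_finLen (hlow (d - 1 - a + 1).toNat (d - 1) (by omega) (by omega)) hM1
  let g : Ext Z (ModuleCat.of S (S ⧸ IsLocalRing.maximalIdeal S)) d →ₗ[S] Ext Z (ModuleCat.of S (S ⧸ J)) d :=
    extMap Z X.g d
  have hg : Function.Injective g := (injective_iff_map_eq_zero _).2 fun v hv => by
    obtain ⟨w, rfl⟩ := exists_conn_eq Z hX (d - 1) d (by omega) v hv
    rw [Subsingleton.elim w 0, map_zero]
  have hne : ∃ v : Ext Z (ModuleCat.of S (S ⧸ IsLocalRing.maximalIdeal S)) d, v ≠ 0 := by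
    by_contra! hall
    haveI := subsingleton_finLen (subsingleton_of_forall_eq 0 hall) hRfl
    exact zero_ne_one (α := S ⧸ J) (line.symm.toEquiv.subsingleton.elim _ _)
  obtain ⟨s, hs0, hs, hsoc⟩ := GorLib.gorenstein_iff_socCyclic.1 hG
  have hsoc' : ∀ v, line (g v) ∈ Ideal.span {s} := fun v => hsoc _ fun x hx => by
    obtain ⟨r, rfl⟩ := Ideal.Quotient.mk_surjective x
    have hrm : r ∈ IsLocalRing.maximalIdeal S := fun hu => hx (hu.map _)
    show r • line (g v) = 0
    rw [← map_smul, ← map_smul, smul_ext_eq_zero hrm, map_zero, map_zero]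
  obtain ⟨v0, hv0⟩ := hne
  obtain ⟨c0, hc0⟩ := Ideal.mem_span_singleton'.1 (hsoc' v0)
  have hc0u : IsUnit c0 := by
    by_contra hu
    refine hv0 (hg (line.injective ?_))
    rw [map_zero, map_zero, ← hc0, hs c0 hu]
  let T : S →ₗ[S] Ext Z (ModuleCat.of S (S ⧸ IsLocalRing.maximalIdeal S)) d :=
    LinearMap.toSpanSingleton S _ v0
  have hT : Function.Surjective T := fun v => by
    obtain ⟨c, hc⟩ := Ideal.mem_span_singleton'.1 (hsoc' v)
    obtain ⟨r, hr⟩ := Ideal.Quotient.mk_surjective (I := J) (c * ((hc0u.unit⁻¹ : (S ⧸ J)ˣ) : S ⧸ J))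
    refine ⟨r, hg (line.injective ?_)⟩
    show line (g (r • v0)) = line (g v)
    rw [map_smul, map_smul, ← hc0, ← hc, Algebra.smul_def]
    show Ideal.Quotient.mk J r * (c0 * s) = c * s
    rw [hr]
    linear_combination (c * s) * hc0u.val_inv_mul
  have hker : LinearMap.ker T = IsLocalRing.maximalIdeal S :=
    ((IsLocalRing.maximalIdeal.isMaximal S).eq_of_le (fun htop => hv0 (by
      have h1 : (1 : S) ∈ LinearMap.ker T := htop ▸ Submodule.mem_top
      simpa [T] using h1)) fun r hr => smul_ext_eq_zero hr d v0).symm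
  let e : Ext Z (ModuleCat.of S (S ⧸ IsLocalRing.maximalIdeal S)) d ≃ₗ[S] (S ⧸ IsLocalRing.maximalIdeal S) :=
    (T.quotKerEquivOfSurjective hT).symm.trans (Submodule.quotEquivOfEq _ _ hker)
  haveI : IsSimpleModule S (S ⧸ IsLocalRing.maximalIdeal S) :=
    isSimpleModule_iff_quot_maximal.2 ⟨_, inferInstance, ⟨LinearEquiv.refl _ _⟩⟩
  have hk1 : Module.length S (Ext Z (ModuleCat.of S (S ⧸ IsLocalRing.maximalIdeal S)) d) = 1 :=
    e.length_eq.trans (Module.length_eq_one S _)
  -- the restriction to the maximal ideal is onto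
  let ff : Ext Z (ModuleCat.of S (S ⧸ J)) d →ₗ[S] Ext Z (ModuleCat.of S M1) d := extMap Z X.f d
  have hex : Function.Exact g ff.rangeRestrict := fun f => by
    refine ⟨fun hf => (exists_of_extMap_f_eq_zero hX d f (congrArg Subtype.val hf)).imp fun _ h => h.symm,
      fun ⟨y, hy⟩ => ?_⟩
    subst hy
    exact Subtype.ext (extMap_f_extMap_g Z hX d y)
  have hlen : Module.length S (LinearMap.range ff) = Module.length S M1 := by
    have h1 := Module.length_eq_add_of_exact g ff.rangeRestrict hg (fun ⟨_, x, rfl⟩ => ⟨x, rfl⟩) hex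
    have h2 : Module.length S (S ⧸ J) = Module.length S M1 + 1 := by
      rw [Module.length_eq_add_of_exact M1.subtype (Submodule.factor hJm) (Submodule.injective_subtype M1)
        (Submodule.factor_surjective hJm) (LinearMap.exact_subtype_ker_map _), Module.length_eq_one S (S ⧸ IsLocalRing.maximalIdeal S)]
    rw [line.length_eq, h2, hk1, add_comm (Module.length S M1)] at h1
    exact (WithTop.add_left_cancel ENat.one_ne_top h1).symm
  have hM1le := length_finLen (Z := Z) hk1.le hM1
  have hfin : IsFiniteLength S (Ext Z (ModuleCat.of S M1) d) :=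
    Module.length_ne_top_iff.1 (ne_top_of_le_ne_top (Module.length_ne_top_iff.2 hM1) hM1le)
  obtain ⟨_, _⟩ := isFiniteLength_iff_isNoetherian_isArtinian.1 hfin
  have hff : LinearMap.range ff = ⊤ := by
    by_contra hne'
    have hlt := Submodule.length_lt hne'
    rw [hlen] at hlt
    exact absurd hM1le (not_le.2 hlt)
  have hhigh : ∀ n : ℕ, Subsingleton (Ext Z (ModuleCat.of S (S ⧸ IsLocalRing.maximalIdeal S)) (d + 1 + n)) := by
    intro n
    induction n with
    | zero =>
      refine subsingleton_of_forall_eq 0 fun w => ?_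
      haveI := hvan (d + 1 + ((0 : ℕ) : ℤ)) (by omega)
      obtain ⟨v, rfl⟩ := exists_conn_eq Z hX d (d + 1 + ((0 : ℕ) : ℤ)) (by omega) w
        (Subsingleton.elim (α := Ext Z (ModuleCat.of S (S ⧸ J)) _) _ _)
      obtain ⟨u, rfl⟩ : v ∈ LinearMap.range ff := hff ▸ Submodule.mem_top
      exact conn_extMap_f Z hX d _ (by omega) u
    | succ n ih =>
      exact subsingleton_ext₃ hX (d + 1 + ((n + 1 : ℕ) : ℤ)) (d + 1 + (n : ℤ)) (by push_cast; omega)
        (subsingleton_finLen ih hM1) (hvan _ (by omega))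
  refine ⟨fun i hi => ?_, ⟨e⟩⟩
  rcases lt_or_gt_of_ne hi with h | h
  · exact hlow (i - a + 1).toNat i (by omega) h
  · rw [show i = d + 1 + (((i - d - 1).toNat : ℕ) : ℤ) by omega]
    exact hhigh _

/-- Killing a regular element. -/
theorem exists_quotient_step (J : Ideal S) (x : S) (hf : IsSMulRegular (S ⧸ J) (Ideal.Quotient.mk J x)) (d : ℤ)
    (hvan : ∀ i, i ≠ d → Subsingleton (Ext Z (ModuleCat.of S (S ⧸ J)) i))
    (line : Ext Z (ModuleCat.of S (S ⧸ J)) d ≃ₗ[S] (S ⧸ J)) :
    (∀ i, i ≠ d + 1 → Subsingleton (Ext Z (ModuleCat.of S (S ⧸ (J ⊔ Ideal.span {x}))) i)) ∧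
      Nonempty (Ext Z (ModuleCat.of S (S ⧸ (J ⊔ Ideal.span {x}))) (d + 1) ≃ₗ[S] (S ⧸ (J ⊔ Ideal.span {x}))) := by
  let J' := J ⊔ Ideal.span {x}
  let M := ModuleCat.of S (S ⧸ J)
  let X : ShortComplex (ModuleCat.{u} S) := ShortComplex.mk (x • 𝟙 M)
    (ModuleCat.ofHom (Submodule.factor (le_sup_left : J ≤ J')) : M ⟶ ModuleCat.of S (S ⧸ J'))
    (ModuleCat.hom_ext (LinearMap.ext fun y => by
      show Submodule.factor (le_sup_left : J ≤ J') (x • y) = 0
      obtain ⟨r, rfl⟩ := Submodule.Quotient.mk_surjective _ y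
      rw [← Submodule.Quotient.mk_smul]
      exact (Submodule.Quotient.mk_eq_zero J').2
        (Ideal.mul_mem_right _ _ (Ideal.mem_sup_right (Ideal.mem_span_singleton_self x)))))
  have hX : X.ShortExact :=
    { exact := (ShortComplex.moduleCat_exact_iff _).2 fun y hy => by
        obtain ⟨r, rfl⟩ := Submodule.Quotient.mk_surjective J y
        obtain ⟨p, hp, q, hq, hpq⟩ := Submodule.mem_sup.1 ((Submodule.Quotient.mk_eq_zero J').1 hy)
        obtain ⟨c, rfl⟩ := Ideal.mem_span_singleton'.1 hq
        refine ⟨(Submodule.Quotient.mk c : S ⧸ J), ?_⟩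
        show x • (Submodule.Quotient.mk c : S ⧸ J) = _
        rw [← Submodule.Quotient.mk_smul, eq_comm]
        refine (Submodule.Quotient.eq J).2 ?_
        have h : r - x • c = p := by
          have h' : p + c * x = r := hpq
          rw [smul_eq_mul, ← h']; ring
        rw [h]; exact hp
      mono_f := (ModuleCat.mono_iff_injective _).2 fun y z h => hf (by
        change (x • y : S ⧸ J) = x • z at h
        rw [Algebra.smul_def, Algebra.smul_def] at h
        exact h)
      epi_g := (ModuleCat.epi_iff_surjective _).2 (Submodule.factor_surjective le_sup_left) }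
  have hmulf : ∀ i (g : Ext Z M i), extMap Z X.f i g = x • g := extMap_smul_id x M
  have hinj : ∀ g : Ext Z M d, x • g = 0 → g = 0 := fun g hg => line.injective ((hf (by
    show Ideal.Quotient.mk J x * line g = Ideal.Quotient.mk J x * 0
    rw [mul_zero]
    have h := congrArg line hg
    rw [map_smul, map_zero, Algebra.smul_def] at h
    exact h)).trans (map_zero line).symm)
  have hvan' : ∀ i, i ≠ d + 1 → Subsingleton (Ext Z (ModuleCat.of S (S ⧸ J')) i) := fun i hi => by
    by_cases hid : i = d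
    · subst hid
      refine subsingleton_of_forall_eq 0 fun w => ?_
      haveI : Subsingleton (Ext Z X.X₁ (i - 1)) := hvan (i - 1) (by omega)
      obtain ⟨v, rfl⟩ := exists_conn_eq Z hX (i - 1) i (by omega) w
        (hinj _ ((hmulf i _).symm.trans (extMap_f_extMap_g Z hX i w)))
      rw [Subsingleton.elim v 0, map_zero]
    · exact subsingleton_ext₃ hX i (i - 1) (by omega) (hvan (i - 1) (by omega)) (hvan i hid)
  let T : S →ₗ[S] Ext Z (ModuleCat.of S (S ⧸ J')) (d + 1) :=
    (conn Z hX d (d + 1) rfl).comp (line.symm.toLinearMap.comp (Submodule.mkQ J))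
  have hT : Function.Surjective T := fun w => by
    haveI : Subsingleton (Ext Z X.X₂ (d + 1)) := hvan (d + 1) (by omega)
    obtain ⟨v, rfl⟩ := exists_conn_eq Z hX d (d + 1) rfl w (Subsingleton.elim _ _)
    obtain ⟨r, hr⟩ := Submodule.Quotient.mk_surjective J (line v)
    exact ⟨r, congrArg (conn Z hX d (d + 1) rfl) (line.injective ((line.apply_symm_apply _).trans hr))⟩
  have hker : LinearMap.ker T = J' := le_antisymm (fun r hr => by
    obtain ⟨g, hg⟩ := exists_extMap_f_eq Z hX d (d + 1) rfl _ hr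
    rw [hmulf] at hg
    obtain ⟨c, hc⟩ := Submodule.Quotient.mk_surjective J (line g)
    have h := congrArg line hg
    rw [map_smul, ← hc, ← Submodule.Quotient.mk_smul] at h
    have h' : (Submodule.Quotient.mk (x • c) : S ⧸ J) = Submodule.Quotient.mk r :=
      h.trans (line.apply_symm_apply _)
    refine Submodule.mem_sup.2 ⟨r - x • c, ?_, x • c, Ideal.mem_span_singleton'.2 ⟨c, mul_comm _ _⟩, sub_add_cancel _ _⟩
    exact (Submodule.Quotient.eq J).1 h'.symm) (sup_le (fun r hr => by
      show conn Z hX d (d + 1) rfl (line.symm (Submodule.Quotient.mk r)) = 0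
      rw [(Submodule.Quotient.mk_eq_zero J).2 hr, map_zero, map_zero]) (by
      rw [Ideal.span_le, Set.singleton_subset_iff]
      show conn Z hX d (d + 1) rfl (line.symm (Submodule.Quotient.mk x)) = 0
      have h : line.symm (Submodule.Quotient.mk x) = extMap Z X.f d (line.symm (Submodule.Quotient.mk 1)) := by
        rw [hmulf, ← map_smul, ← Submodule.Quotient.mk_smul, smul_eq_mul, mul_one]
      rw [h]
      exact conn_extMap_f Z hX d (d + 1) rfl _))
  exact ⟨hvan', ⟨((T.quotKerEquivOfSurjective hT).symm.trans (Submodule.quotEquivOfEq _ _ hker))⟩⟩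

/-- The residue field from a Gorenstein quotient. -/
theorem exists_line {a : ℤ} (ha : Z.IsGE a) : ∀ (N : ℕ) (J : Ideal S),
    LocCoh.IsGorensteinLocalRing (S ⧸ J) → ringKrullDim (S ⧸ J) ≤ N → ∀ d : ℤ,
    (∀ i, i ≠ d → Subsingleton (Ext Z (ModuleCat.of S (S ⧸ J)) i)) →
    (Ext Z (ModuleCat.of S (S ⧸ J)) d ≃ₗ[S] (S ⧸ J)) →
    ∃ d' : ℤ, d' ≤ d + N ∧
      (∀ i, i ≠ d' → Subsingleton (Ext Z (ModuleCat.of S (S ⧸ IsLocalRing.maximalIdeal S)) i)) ∧
      Nonempty (Ext Z (ModuleCat.of S (S ⧸ IsLocalRing.maximalIdeal S)) d' ≃ₗ[S]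
        (S ⧸ IsLocalRing.maximalIdeal S)) := by
  intro N
  induction N with
  | zero =>
    intro J hG hdim d hvan line
    haveI : IsArtinianRing (S ⧸ J) :=
      isArtinianRing_iff_krullDimLE_zero.2 ((Order.krullDimLE_iff 0 _).2 (by exact_mod_cast hdim))
    exact ⟨d, by simp, exists_line_artinian ha J hG d hvan line⟩
  | succ N ih =>
    intro J hG hdim d hvan line
    haveI := hG
    obtain ⟨rs, hrs, hlen⟩ := GorLib.isCM_of_gorenstein (R := S ⧸ J)
    by_cases hle : ringKrullDim (S ⧸ J) ≤ N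
    · obtain ⟨d', hd', h⟩ := ih J hG hle d hvan line
      exact ⟨d', by push_cast; omega, h⟩
    obtain ⟨f, rs', rfl⟩ : ∃ f rs', rs = f :: rs' := by
      rcases rs with _ | ⟨f, rs'⟩
      · exact absurd (hlen.trans_le (by simp)) hle
      · exact ⟨f, rs', rfl⟩
    obtain ⟨hf, hrest⟩ := CommAlgDim.isRegular_cons_ring.1 hrs
    have hfm : f ∈ IsLocalRing.maximalIdeal (S ⧸ J) := fun hu => by
      haveI := hrest.nontrivial
      exact Ideal.Quotient.nontrivial_iff.1 ‹_› (Ideal.span_singleton_eq_top.2 hu)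
    obtain ⟨x, rfl⟩ := Ideal.Quotient.mk_surjective f
    let J' := J ⊔ Ideal.span {x}
    let e : ((S ⧸ J) ⧸ Ideal.span {Ideal.Quotient.mk J x}) ≃+* S ⧸ J' :=
      (Ideal.quotEquivOfEq (by rw [Ideal.map_span, Set.image_singleton])).trans
        (DoubleQuot.quotQuotEquivQuotSup J (Ideal.span {x}))
    have hG' : LocCoh.IsGorensteinLocalRing (S ⧸ J') :=
      GorLib.gorenstein_of_ringEquiv e.symm ((GorLib.gorenstein_quotient_iff hf hfm).1 hG)
    have hdim' : ringKrullDim (S ⧸ J') ≤ N := by
      rw [← ringKrullDim_eq_of_ringEquiv e]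
      have h1 : ringKrullDim ((S ⧸ J) ⧸ Ideal.span {Ideal.Quotient.mk J x}) + 1 ≤ ((N + 1 : ℕ) : WithBot ℕ∞) := by
        rw [ringKrullDim_quotient_span_singleton_succ_eq_ringKrullDim hf hfm]
        exact hdim
      revert h1
      generalize ringKrullDim ((S ⧸ J) ⧸ Ideal.span {Ideal.Quotient.mk J x}) = D
      induction D using WithBot.recBotCoe with
      | bot => exact fun _ => bot_le
      | coe D =>
        induction D using ENat.recTopCoe with
        | top =>
          intro h
          have h' : ((⊤ : ℕ∞) + 1 : ℕ∞) ≤ ((N + 1 : ℕ) : ℕ∞) := by exact_mod_cast h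
          rw [top_add, top_le_iff] at h'
          exact absurd h' (ENat.natCast_ne_top _)
        | coe D =>
          intro h
          have : D + 1 ≤ N + 1 := by exact_mod_cast h
          exact_mod_cast Nat.le_of_succ_le_succ this
    obtain ⟨hvan', ⟨line'⟩⟩ := exists_quotient_step J x hf d hvan line
    obtain ⟨d', hd', h⟩ := ih J' hG' hdim' (d + 1) hvan' line'
    exact ⟨d', by push_cast; omega, h⟩

end Local

end DualBCLib
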