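import Groth.Agent.DualBCLib.Closed
import Groth.Agent.DualBCLib.GorLine

/-!
# Flat base change of dualizing complexes: Gorenstein fibres
-/

set_option autoImplicit false
set_option linter.all false
set_option maxHeartbeats 1000000

universe u

open CategoryTheory CategoryTheory.Limits
open Groth.Agent DTen
open DTenLib.Point (hH sg)
open scoped TensorProduct

attribute [local instance] HasDerivedCategory.standard

noncomputable section

namespace DualBCLib

open Groth.Agent.DualCxLib FlatExtLib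

section Loc

variable {R : Type u} [CommRing R] [IsNoetherianRing R] {L : Type u} [CommRing L] [Algebra R L] (M : Submonoid R)
  [IsLocalization M L]

/-- Localization of `Hom`, as a semilinear map. -/
theorem exists_loc_hom {X Z : Dual.D R} {Xl Zl : Dual.D L}
    {ηX : X ⟶ (DRing.restrictD (algebraMap R L)).obj Xl} {ηZ : Z ⟶ (DRing.restrictD (algebraMap R L)).obj Zl}
    (hu : IsUniv (algebraMap R L) ηX) (hl : IsLocH (algebraMap R L) M ηZ) {a c : ℤ} {k : ℕ} (hge : Z.IsGE a)
    (hb : ∀ l, (l < c ∨ c + k ≤ l) → IsZero ((hH R l).obj X))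
    (hf : ∀ l, Module.Finite R ((hH R l).obj X)) (i : ℤ) :
    ∃ ℓ : (X ⟶ Z⟦i⟧) →ₛₗ[algebraMap R L] (Xl ⟶ Zl⟦i⟧),
      (∀ v, ∃ s ∈ M, ∃ f, algebraMap R L s • v = ℓ f) ∧ ∀ f, ℓ f = 0 → ∃ s ∈ M, s • f = 0 := by
  let η' := ηZ⟦i⟧' ≫ ((DRing.restrictD (algebraMap R L)).commShiftIso i).inv.app Zl
  haveI := DerivedCategory.TStructure.t.isGE_shift Z a i (a - i) (by omega)
  have hloc := hom_loc (isLocH_shift hl i) (a := a - i) inferInstance hb hf
  let e := Equiv.ofBijective _ (hu (Zl⟦i⟧))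
  have he : ∀ f : X ⟶ Z⟦i⟧, ηX ≫ (DRing.restrictD (algebraMap R L)).map (e.symm (f ≫ η')) = f ≫ η' :=
    fun f => e.apply_symm_apply (f ≫ η')
  refine ⟨{ toFun := fun f => e.symm (f ≫ η'), map_add' := fun f g => ?_, map_smul' := fun r f => ?_ },
    fun v => ?_, fun f hf => ?_⟩
  · refine (hu _).1 ?_
    show ηX ≫ _ = ηX ≫ _
    rw [he, Functor.map_add, Preadditive.comp_add, he, he, Preadditive.add_comp]
  · refine (hu _).1 ?_
    show ηX ≫ _ = ηX ≫ _
    rw [he, restrictD_smul, Linear.comp_smul, he, Linear.smul_comp]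
  · obtain ⟨s, hs, f, hf⟩ := hloc.2 (ηX ≫ (DRing.restrictD (algebraMap R L)).map v)
    refine ⟨s, hs, f, (hu _).1 ?_⟩
    show ηX ≫ _ = ηX ≫ _
    refine Eq.trans ?_ (he f).symm
    rw [restrictD_smul, Linear.comp_smul, hf]
  · refine hloc.1 f ?_
    rw [← he f]
    show ηX ≫ (DRing.restrictD (algebraMap R L)).map (e.symm (f ≫ η')) = 0
    rw [show e.symm (f ≫ η') = 0 from hf, Functor.map_zero, comp_zero]

/-- A module generically generated by one element localizes to a line. -/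
theorem exists_loc_line {V W : Type*} [AddCommGroup V] [Module R V] [AddCommGroup W] [Module L W]
    (ℓ : V →ₛₗ[algebraMap R L] W) (h1 : ∀ v, ∃ s ∈ M, ∃ f, algebraMap R L s • v = ℓ f)
    (h2 : ∀ f, ℓ f = 0 → ∃ s ∈ M, s • f = 0) (I : Ideal R) (g₀ : V)
    (hgen : ∀ g, ∃ s ∈ M, ∃ r : R, s • g = r • g₀) (hann : ∀ r : R, r ∈ I → r • g₀ = 0)
    (hann' : ∀ r : R, r • g₀ = 0 → ∃ s ∈ M, s * r ∈ I) :
    Nonempty (W ≃ₗ[L] L ⧸ I.map (algebraMap R L)) := by
  let T : L →ₗ[L] W := LinearMap.toSpanSingleton L W (ℓ g₀)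
  have hT : Function.Surjective T := fun v => by
    obtain ⟨s, hs, f, hf⟩ := h1 v
    obtain ⟨t, ht, r, hr⟩ := hgen f
    refine ⟨IsLocalization.mk' L r (⟨t * s, M.mul_mem ht hs⟩ : M), ?_⟩
    show IsLocalization.mk' L r (⟨t * s, M.mul_mem ht hs⟩ : M) • ℓ g₀ = v
    refine (IsUnit.smul_left_cancel (IsLocalization.map_units L (⟨t * s, M.mul_mem ht hs⟩ : M))).1 ?_
    rw [← mul_smul, mul_comm, IsLocalization.mk'_spec, ← map_smulₛₗ, ← hr, map_smulₛₗ, ← hf, map_mul, mul_smul]
  have hker : LinearMap.ker T = I.map (algebraMap R L) := le_antisymm (fun x hx => by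
    obtain ⟨⟨r, s⟩, hr⟩ := IsLocalization.surj M x
    have h0 : ℓ (r • g₀) = 0 := by
      rw [map_smulₛₗ, ← hr, mul_comm, mul_smul]
      rw [show x • ℓ g₀ = 0 from hx, smul_zero]
    obtain ⟨t, ht, htr⟩ := h2 _ h0
    rw [← mul_smul] at htr
    obtain ⟨u, hu, hI⟩ := hann' _ htr
    have h := Ideal.mem_map_of_mem (algebraMap R L) hI
    rw [map_mul, map_mul, ← hr, ← mul_assoc] at h
    refine (Ideal.unit_mul_mem_iff_mem _ ?_).1 (show (algebraMap R L u * algebraMap R L t * algebraMap R L s) * x ∈ _ by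
      rw [mul_assoc, mul_comm (algebraMap R L s) x]; exact h)
    exact ((IsLocalization.map_units L (⟨u, hu⟩ : M)).mul (IsLocalization.map_units L (⟨t, ht⟩ : M))).mul
      (IsLocalization.map_units L s)) (Ideal.map_le_iff_le_comap.2 fun r hr => by
        show algebraMap R L r • ℓ g₀ = 0
        rw [← map_smulₛₗ, hann r hr, map_zero])
  exact ⟨(T.quotKerEquivOfSurjective hT).symm.trans (Submodule.quotEquivOfEq _ _ hker)⟩

omit [IsNoetherianRing R] in
theorem nonempty_extend_map (I : Ideal R) :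
    Nonempty ((ModuleCat.extendScalars.{u, u, u} (algebraMap R L)).obj (ModuleCat.of R (R ⧸ I)) ≅
      ModuleCat.of L (L ⧸ I.map (algebraMap R L))) :=
  ⟨((DRingLib.extendScalarsEquiv (A := R) (B := L) (ModuleCat.of R (R ⧸ I))).trans
    (Algebra.TensorProduct.quotIdealMapEquivTensorQuot L I).symm.toLinearEquiv).toModuleIso⟩

theorem bounded_sg (N : ModuleCat.{u} R) [Module.Finite R N] :
    (∀ l : ℤ, (l < 0 ∨ (0 : ℤ) + (1 : ℕ) ≤ l) → IsZero ((hH R l).obj (sg N 0))) ∧
      ∀ l : ℤ, Module.Finite R ((hH R l).obj (sg N 0)) := by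
  refine ⟨fun l hl => DTenLib.Point.isZero_sg (show l ≠ 0 by omega), fun l => ?_⟩
  rcases eq_or_ne l 0 with rfl | hl
  · exact Module.Finite.equiv (DTenLib.Point.sgH N 0).toLinearEquiv.symm
  · haveI := ModuleCat.subsingleton_of_isZero (DTenLib.Point.isZero_sg (N := N) hl)
    infer_instance

omit [IsNoetherianRing R] in
theorem exists_loc_any (Z : Dual.D R) : ∃ (Zl : Dual.D L) (ηl : Z ⟶ (DRing.restrictD (algebraMap R L)).obj Zl),
    IsUniv (algebraMap R L) ηl ∧ IsLocH (algebraMap R L) M ηl := by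
  let P := DerivedCategory.Q.objPreimage Z
  let e : DerivedCategory.Q.obj P ≅ Z := DerivedCategory.Q.objObjPreimageIso Z
  exact ⟨_, _, (isUniv_γ M P).comp_iso e.symm (Iso.refl _), (isLocH_γ M P).comp_iso e.symm (Iso.refl _)⟩

end Loc

/-- At a prime, `Ext(A/p, ω)` is generically one line in one degree. -/
theorem exists_generic_line {A : Type u} [CommRing A] [IsNoetherianRing A] {ω : Dual.D A}
    (hω : Dual.IsDualizing A ω) (p : Ideal A) [p.IsPrime] :
    ∃ d : ℤ, (∀ i, i ≠ d → Van p (Ext ω (ModuleCat.of A (A ⧸ p)) i)) ∧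
      ∃ g₀ : Ext ω (ModuleCat.of A (A ⧸ p)) d, (∀ g, ∃ s : A, s ∉ p ∧ ∃ r : A, s • g = r • g₀) ∧
        ∀ r : A, r • g₀ = 0 → r ∈ p := by
  obtain ⟨a, ha⟩ := isGE_dualizing hω
  let L := Localization.AtPrime p
  haveI : IsNoetherianRing L := IsLocalization.isNoetherianRing p.primeCompl _ inferInstance
  obtain ⟨ωl, ηl, hu, hl⟩ := exists_loc_any (L := L) p.primeCompl ω
  have hωl := isDualizing_loc p.primeCompl hω hu hl
  obtain ⟨d, hd⟩ := isPointwiseDual_of_isDualizing hωl
  obtain ⟨hN'⟩ := nonempty_extend_map (L := L) p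
  let hN'' : (ModuleCat.extendScalars.{u, u, u} (algebraMap A L)).obj (ModuleCat.of A (A ⧸ p)) ≅
      ModuleCat.of L (IsLocalRing.ResidueField L) :=
    hN' ≪≫ (Submodule.quotEquivOfEq _ _ (Localization.AtPrime.map_eq_maximalIdeal (I := p))).toModuleIso
  obtain ⟨ηN, huN, -⟩ := exists_loc_single p.primeCompl (ModuleCat.of A (A ⧸ p)) hN''
  obtain ⟨hb, hf⟩ := bounded_sg (ModuleCat.of A (A ⧸ p))
  refine ⟨d, fun i hi f => ?_, ?_⟩
  · obtain ⟨ℓ, -, h2⟩ := exists_loc_hom p.primeCompl huN hl ha hb hf i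
    haveI : Subsingleton (sg (ModuleCat.of L (IsLocalRing.ResidueField L)) 0 ⟶ ωl⟦i⟧) := hd.vanishes i hi
    obtain ⟨s, hs, hsf⟩ := h2 f (Subsingleton.elim _ _)
    exact ⟨s, hs, hsf⟩
  · obtain ⟨ℓ, h1, h2⟩ := exists_loc_hom p.primeCompl huN hl ha hb hf d
    obtain ⟨line⟩ := hd.line
    let v₁ : sg (ModuleCat.of L (IsLocalRing.ResidueField L)) 0 ⟶ ωl⟦d⟧ := line.symm 1
    obtain ⟨s, hs, g₀, hg₀⟩ := h1 v₁
    refine ⟨g₀, fun g => ?_, fun r hr => ?_⟩
    · obtain ⟨x, hx⟩ := IsLocalRing.residue_surjective (line (ℓ g))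
      have hgx : ℓ g = x • v₁ := line.injective (by
        rw [map_smul, line.apply_symm_apply, ← hx, Algebra.smul_def, mul_one]
        rfl)
      obtain ⟨⟨r, t⟩, hr⟩ := IsLocalization.surj p.primeCompl x
      have h0 : ℓ (((t : A) * s) • g - r • g₀) = 0 := by
        rw [map_sub, map_smulₛₗ, map_smulₛₗ, ← hg₀, hgx, ← hr, map_mul, ← mul_smul, ← mul_smul, ← sub_smul,
          show algebraMap A L t * algebraMap A L s * x - x * algebraMap A L t * algebraMap A L s = 0 by ring,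
          zero_smul]
      obtain ⟨u, hu', hu''⟩ := h2 _ h0
      rw [smul_sub, sub_eq_zero, ← mul_smul, ← mul_smul] at hu''
      exact ⟨u * (t * s), p.primeCompl.mul_mem hu' (p.primeCompl.mul_mem t.2 hs), u * r, hu''⟩
    · have h0 := congrArg ℓ hr
      rw [map_smulₛₗ, ← hg₀, ← mul_smul, map_zero] at h0
      have h1' := congrArg line h0
      rw [map_smul, line.apply_symm_apply, map_zero, Algebra.smul_def, mul_one, ← map_mul,
        IsLocalRing.ResidueField.algebraMap_eq, IsLocalRing.residue_eq_zero_iff,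
        ← Ideal.mem_comap, ← Ideal.under_def, IsLocalization.AtPrime.comap_maximalIdeal L p] at h1'
      exact (Ideal.IsPrime.mem_or_mem inferInstance h1').resolve_right hs

variable {A : Type u} [CommRing A] {S : Type u} [CommRing S] [Algebra A S] [Module.Flat A S]
  [IsNoetherianRing A] [IsNoetherianRing S]

local notation "φ" => algebraMap A S

/-- The fibre ring at a prime has one `Ext` into the base change, a copy of itself. -/
theorem exists_fibre_line {ω : Dual.D A} (hω : Dual.IsDualizing A ω) {a b : ℤ}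
    (hab : ∀ (M : Type u) [AddCommGroup M] [Module A M] (i : ℤ), (i < a ∨ b < i) →
      Subsingleton (Dual.inD A M ⟶ ω⟦i⟧))
    {Z : Dual.D S} {η : ω ⟶ (DRing.restrictD φ).obj Z} (hη : IsBC η) (n : Ideal S) [n.IsPrime] :
    ∃ (Zl : Dual.D (Localization.AtPrime n))
      (ηl : Z ⟶ (DRing.restrictD (algebraMap S (Localization.AtPrime n))).obj Zl) (d : ℤ),
      IsUniv (algebraMap S (Localization.AtPrime n)) ηl ∧
      IsLocH (algebraMap S (Localization.AtPrime n)) n.primeCompl ηl ∧ Zl.IsGE a ∧ d ≤ b ∧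
      (∀ i, i ≠ d → Subsingleton (Ext Zl (ModuleCat.of (Localization.AtPrime n) (Localization.AtPrime n ⧸
        ((n.comap φ).map φ).map (algebraMap S (Localization.AtPrime n)))) i)) ∧
      Nonempty (Ext Zl (ModuleCat.of (Localization.AtPrime n) (Localization.AtPrime n ⧸
        ((n.comap φ).map φ).map (algebraMap S (Localization.AtPrime n)))) d ≃ₗ[Localization.AtPrime n]
          Localization.AtPrime n ⧸ ((n.comap φ).map φ).map (algebraMap S (Localization.AtPrime n))) := by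
  let L := Localization.AtPrime n
  haveI : IsNoetherianRing L := IsLocalization.isNoetherianRing n.primeCompl _ inferInstance
  have ha : ω.IsGE a :=
    (DerivedCategory.isGE_iff ω a).2 fun i hi => isZero_of_ext_ring i (hab _ i (Or.inl hi))
  have hge := (exists_isGE hη ha).2
  obtain ⟨Zl, ηl, hu, hl⟩ := exists_loc_any (L := L) n.primeCompl Z
  have hlge : Zl.IsGE a := (DerivedCategory.isGE_iff Zl a).2 fun i hi => not_tor_HD n.primeCompl hl i (by
    haveI : Subsingleton (Dual.HD S Z i) :=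
      ModuleCat.subsingleton_of_isZero (DerivedCategory.isZero_of_isGE Z a i hi)
    exact tor_of_subsingleton)
  obtain ⟨d, hvan, g₀, hgen, hann⟩ := exists_generic_line hω (n.comap φ)
  have hdb : d ≤ b := by
    by_contra! hlt
    haveI := hab (A ⧸ n.comap φ) d (Or.inr hlt)
    exact (inferInstance : (n.comap φ).IsPrime).ne_top ((Ideal.eq_top_iff_one _).2 (hann 1 (Subsingleton.elim (α := Ext ω (ModuleCat.of A (A ⧸ n.comap φ)) d) _ _)))
  let J : Ideal L := ((n.comap φ).map φ).map (algebraMap S L)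
  let ek : S ⊗[A] (A ⧸ n.comap φ) ≃ₗ[S] S ⧸ (n.comap φ).map φ :=
    (Algebra.TensorProduct.quotIdealMapEquivTensorQuot S (n.comap φ)).symm.toLinearEquiv
  have eExt : ∀ i, Nonempty (S ⊗[A] Ext ω (ModuleCat.of A (A ⧸ n.comap φ)) i ≃ₗ[S]
      (Dual.inD S (S ⧸ (n.comap φ).map φ) ⟶ Z⟦i⟧)) := fun i => by
    obtain ⟨E⟩ := nonempty_ext_bc ha hη (A ⧸ n.comap φ) i
    exact ⟨E.trans (precompL ((DerivedCategory.singleFunctor (ModuleCat.{u} S) 0).mapIso
      ek.toModuleIso) (Z⟦i⟧))⟩
  obtain ⟨hN'⟩ := nonempty_extend_map (L := L) ((n.comap φ).map φ)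
  obtain ⟨ηN, huN, -⟩ := exists_loc_single n.primeCompl (ModuleCat.of S (S ⧸ (n.comap φ).map φ)) hN'
  obtain ⟨hb, hf⟩ := bounded_sg (ModuleCat.of S (S ⧸ (n.comap φ).map φ))
  have hvanL : ∀ i, i ≠ d → Subsingleton (Ext Zl (ModuleCat.of L (L ⧸ J)) i) := fun i hi => by
    obtain ⟨ℓ, h1, -⟩ := exists_loc_hom n.primeCompl huN hl hge hb hf i
    obtain ⟨E⟩ := eExt i
    refine subsingleton_of_forall_eq 0 fun v => ?_
    obtain ⟨s, hs, f, hf⟩ := h1 v
    obtain ⟨t, ht, htf⟩ := (van_tensor_iff (V := Ext ω (ModuleCat.of A (A ⧸ n.comap φ)) i)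
      (⟨n, inferInstance⟩ : PrimeSpectrum S)).2 (hvan i hi) (E.symm f)
    rw [← map_smul, LinearEquiv.map_eq_zero_iff] at htf
    have h := congrArg (algebraMap S L t • ·) hf
    simp only [← map_smulₛₗ, htf, map_zero, ← mul_smul, ← map_mul] at h
    exact (IsUnit.smul_eq_zero (IsLocalization.map_units L (⟨t * s, n.primeCompl.mul_mem ht hs⟩ : n.primeCompl))).1 h
  obtain ⟨lineL⟩ : Nonempty (Ext Zl (ModuleCat.of L (L ⧸ J)) d ≃ₗ[L] L ⧸ J) := by
    obtain ⟨ℓ, h1, h2⟩ := exists_loc_hom n.primeCompl huN hl hge hb hf d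
    obtain ⟨E⟩ := eExt d
    refine exists_loc_line n.primeCompl ℓ h1 h2 ((n.comap φ).map φ) (E ((1 : S) ⊗ₜ g₀)) (fun g => ?_)
      (fun r hr => smul_ext_eq_zero hr d _) fun r hr => ?_
    · obtain ⟨z, rfl⟩ := E.surjective g
      induction z using TensorProduct.induction_on with
      | zero => exact ⟨1, n.primeCompl.one_mem, 0, by rw [map_zero, smul_zero, zero_smul]⟩
      | tmul t g =>
        obtain ⟨s, hs, r, hsr⟩ := hgen g
        refine ⟨φ s, hs, t * φ r, ?_⟩
        rw [← map_smul, ← map_smul]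
        congr 1
        rw [algebraMap_smul, ← TensorProduct.tmul_smul, hsr, TensorProduct.tmul_smul, TensorProduct.smul_tmul',
          TensorProduct.smul_tmul', Algebra.smul_def, smul_eq_mul, mul_one, mul_comm]
      | add x y hx hy =>
        obtain ⟨s, hs, r, hx⟩ := hx
        obtain ⟨s', hs', r', hy⟩ := hy
        refine ⟨s * s', n.primeCompl.mul_mem hs hs', s' * r + s * r', ?_⟩
        rw [map_add, smul_add, add_smul, mul_smul s' r, mul_smul s r', ← hx, ← hy, ← mul_smul, ← mul_smul,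
          mul_comm s' s]
    · refine ⟨1, n.primeCompl.one_mem, ?_⟩
      rw [← map_smul, LinearEquiv.map_eq_zero_iff, TensorProduct.smul_tmul', smul_eq_mul, mul_one] at hr
      let f : (A ⧸ n.comap φ) →ₗ[A] Ext ω (ModuleCat.of A (A ⧸ n.comap φ)) d :=
        (n.comap φ).liftQ (LinearMap.toSpanSingleton A _ g₀) fun x hx => smul_ext_eq_zero hx d g₀
      have hf' : Function.Injective f := (injective_iff_map_eq_zero _).2 fun x hx => by
        obtain ⟨y, rfl⟩ := Submodule.Quotient.mk_surjective _ x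
        exact (Submodule.Quotient.mk_eq_zero _).2 (hann y hx)
      have h1 : f.lTensor S ((r : S) ⊗ₜ (1 : A ⧸ n.comap φ)) = f.lTensor S 0 := by
        rw [map_zero, LinearMap.lTensor_tmul]
        refine Eq.trans ?_ hr
        exact congrArg (r ⊗ₜ[A] ·) (one_smul A g₀)
      have h2' := congrArg ek (Module.Flat.lTensor_preserves_injective_linearMap (M := S) f hf' h1)
      rw [map_zero] at h2'
      rw [one_mul, ← Ideal.Quotient.eq_zero_iff_mem, ← h2']
      show _ = (Algebra.TensorProduct.quotIdealMapEquivTensorQuot S (n.comap φ)).symm (r ⊗ₜ ((1 : A) : A ⧸ n.comap φ))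
      rw [Algebra.TensorProduct.quotIdealMapEquivTensorQuot_symm_tmul, one_smul]
      rfl
  exact ⟨Zl, ηl, d, hu, hl, hlge, hdb, hvanL, ⟨lineL⟩⟩

/-- The pointwise condition at a prime with Gorenstein fibre. -/
theorem exists_pointwise_gor {ω : Dual.D A} (hω : Dual.IsDualizing A ω) {a b : ℤ}
    (hab : ∀ (M : Type u) [AddCommGroup M] [Module A M] (i : ℤ), (i < a ∨ b < i) →
      Subsingleton (Dual.inD A M ⟶ ω⟦i⟧))
    {Z : Dual.D S} {η : ω ⟶ (DRing.restrictD φ).obj Z} (hη : IsBC η) (n : Ideal S) [n.IsPrime]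
    (hG : LocCoh.IsGorensteinLocalRing
      (Localization.AtPrime n ⧸ (n.comap φ).map (algebraMap A (Localization.AtPrime n))))
    {N : ℕ} (hN : ringKrullDim S ≤ N) :
    ∃ (Zl : Dual.D (Localization.AtPrime n))
      (ηl : Z ⟶ (DRing.restrictD (algebraMap S (Localization.AtPrime n))).obj Zl) (d : ℤ),
      IsUniv (algebraMap S (Localization.AtPrime n)) ηl ∧
      IsLocH (algebraMap S (Localization.AtPrime n)) n.primeCompl ηl ∧
      IsPointwiseDual Zl d ∧ d ≤ b + N := by
  let L := Localization.AtPrime n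
  haveI : IsNoetherianRing L := IsLocalization.isNoetherianRing n.primeCompl _ inferInstance
  have ha : ω.IsGE a :=
    (DerivedCategory.isGE_iff ω a).2 fun i hi => isZero_of_ext_ring i (hab _ i (Or.inl hi))
  obtain ⟨Zl, ηl, d, hu, hl, hlge, hdb, hvanL, ⟨lineL⟩⟩ := exists_fibre_line hω hab hη n
  let J : Ideal L := ((n.comap φ).map φ).map (algebraMap S L)
  have hJ : (n.comap φ).map (algebraMap A L) = J := by
    show _ = ((n.comap φ).map φ).map (algebraMap S L)
    rw [Ideal.map_map, ← IsScalarTower.algebraMap_eq]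
  have hG' : LocCoh.IsGorensteinLocalRing (L ⧸ J) := GorLib.gorenstein_of_ringEquiv (Ideal.quotEquivOfEq hJ).symm hG
  haveI := hG'
  have hdim : ringKrullDim (L ⧸ J) ≤ N :=
    (ringKrullDim_quotient_le J).trans (dim_atPrime_le (⟨n, inferInstance⟩ : PrimeSpectrum S) hN)
  obtain ⟨d', hd', hv, hline⟩ := exists_line hlge N J hG' hdim d hvanL lineL
  refine ⟨Zl, ηl, d', hu, hl, ⟨fun i => finite_HD_loc n.primeCompl hl i (finite_HD_bc ha hω.finite_cohomology hη i),
    ⟨a, hlge⟩, hv, hline⟩, by omega⟩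

/-- Flat base change of a dualizing complex along a map with Gorenstein fibres. -/
theorem isDualizing_of_gorenstein_fibres {ω : Dual.D A} (hω : Dual.IsDualizing A ω) {Z : Dual.D S}
    {η : ω ⟶ (DRing.restrictD φ).obj Z} (hη : IsBC η) (hdim : ringKrullDim S < ⊤)
    (hG : ∀ n : Ideal S, ∀ [n.IsMaximal], LocCoh.IsGorensteinLocalRing
      (Localization.AtPrime n ⧸ (n.comap φ).map (algebraMap A (Localization.AtPrime n)))) :
    Dual.IsDualizing S Z := by
  obtain ⟨N, hN⟩ := exists_dim_le hdim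
  obtain ⟨a, b, hab⟩ := hω.finite_injective_dimension
  have ha : ω.IsGE a :=
    (DerivedCategory.isGE_iff ω a).2 fun i hi => isZero_of_ext_ring i (hab _ i (Or.inl hi))
  haveI : ∀ k : {m : Ideal S // m.IsMaximal}, k.1.IsMaximal := fun k => k.2
  choose Zl ηl d hu hl hd hdb using fun k : {m : Ideal S // m.IsMaximal} =>
    exists_pointwise_gor hω hab hη k.1 (hG k.1) hN
  haveI : ∀ k : {m : Ideal S // m.IsMaximal}, IsNoetherianRing (Localization.AtPrime k.1) := fun k =>
    IsLocalization.isNoetherianRing k.1.primeCompl _ inferInstance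
  have hM : Covers fun k : {m : Ideal S // m.IsMaximal} => k.1.primeCompl :=
    fun m hm => ⟨⟨m, hm⟩, fun _ hs => hs⟩
  refine isDualizing_of_local hM hu hl (fun i => finite_HD_bc ha hω.finite_cohomology hη i)
    (fun k => isDualizing_of_pointwise (hd k)) (a := a) (b := b + N) fun I i hi => ?_
  rcases hi with hi | hi
  · exact subsingleton_ext_lt (exists_isGE hη ha).2 (ModuleCat.of S (S ⧸ I)) i hi
  · exact ext_bounds_of_local hM hl (exists_isGE hη ha).2 i (fun k M _ _ =>
      ext_bounds_n (hd k) (dim_atPrime_le (⟨k.1, k.2.isPrime⟩ : PrimeSpectrum S) hN) M i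
        (Or.inr (lt_of_le_of_lt (hdb k) hi))) (S ⧸ I)

end DualBCLib
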