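import Groth.Agent.DualBCLib.Local
import Groth.Agent.DualCxLib.LocApps

/-!
# Flat base change of dualizing complexes: maximal ideals coming from the base
-/

set_option autoImplicit false
set_option linter.all false
set_option maxHeartbeats 1000000

universe u

open CategoryTheory CategoryTheory.Limits
open Groth.Agent DTen
open DTenLib.Point (hH sg)
open scoped TensorProduct

attribute [local instance] HasDerivedCategory.standard

noncomputable section

namespace DualBCLib

open Groth.Agent.DualCxLib FlatExtLib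

variable {A : Type u} [CommRing A] {S : Type u} [CommRing S] [Algebra A S] [Module.Flat A S]
  [IsNoetherianRing A] [IsNoetherianRing S]

local notation "φ" => algebraMap A S

/-- The pointwise condition at a maximal ideal generated by a maximal ideal of the base. -/
theorem exists_pointwise_closed {ω : Dual.D A} (hω : Dual.IsDualizing A ω) {a b : ℤ}
    (hab : ∀ (M : Type u) [AddCommGroup M] [Module A M] (i : ℤ), (i < a ∨ b < i) →
      Subsingleton (Dual.inD A M ⟶ ω⟦i⟧))
    {Z : Dual.D S} {η : ω ⟶ (DRing.restrictD φ).obj Z} (hη : IsBC η) (n : Ideal S) [n.IsMaximal]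
    (hm : (n.comap φ).IsMaximal) (hmn : (n.comap φ).map φ = n) :
    ∃ (Zl : Dual.D (Localization.AtPrime n))
      (ηl : Z ⟶ (DRing.restrictD (algebraMap S (Localization.AtPrime n))).obj Zl) (d : ℤ),
      IsUniv (algebraMap S (Localization.AtPrime n)) ηl ∧
      IsLocH (algebraMap S (Localization.AtPrime n)) n.primeCompl ηl ∧
      IsPointwiseDual Zl d ∧ d ≤ b := by
  haveI := hm
  let L := Localization.AtPrime n
  haveI : IsNoetherianRing L := IsLocalization.isNoetherianRing n.primeCompl _ inferInstance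
  have ha : ω.IsGE a :=
    (DerivedCategory.isGE_iff ω a).2 fun i hi => isZero_of_ext_ring i (hab _ i (Or.inl hi))
  have hge := (exists_isGE hη ha).2
  obtain ⟨Zl, ηl, hu, hl⟩ : ∃ (Zl : Dual.D L) (ηl : Z ⟶ (DRing.restrictD (algebraMap S L)).obj Zl),
      IsUniv (algebraMap S L) ηl ∧ IsLocH (algebraMap S L) n.primeCompl ηl := by
    let P := DerivedCategory.Q.objPreimage Z
    let e : DerivedCategory.Q.obj P ≅ Z := DerivedCategory.Q.objObjPreimageIso Z
    exact ⟨_, _, (isUniv_γ n.primeCompl P).comp_iso e.symm (Iso.refl _),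
      (isLocH_γ n.primeCompl P).comp_iso e.symm (Iso.refl _)⟩
  let J : Ideal L := IsLocalRing.maximalIdeal L
  have hJ : J.comap (algebraMap S L) = n := IsLocalization.AtPrime.comap_maximalIdeal L n
  obtain ⟨d, hvan, ⟨line⟩⟩ := ext_residueField_single_degree ω hω (n.comap φ)
  have hdb : d ≤ b := by
    by_contra! hlt
    haveI := hab (A ⧸ n.comap φ) d (Or.inr hlt)
    exact zero_ne_one (α := A ⧸ n.comap φ) (line.symm.toEquiv.subsingleton.elim _ _)
  let ek : S ⊗[A] (A ⧸ n.comap φ) ≃ₗ[S] S ⧸ J.comap (algebraMap S L) :=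
    (Algebra.TensorProduct.quotIdealMapEquivTensorQuot S (n.comap φ)).symm.toLinearEquiv.trans
      (Submodule.quotEquivOfEq _ _ (hmn.trans hJ.symm))
  have eExt : ∀ i, Nonempty (S ⊗[A] Ext ω (ModuleCat.of A (A ⧸ n.comap φ)) i ≃ₗ[S]
      (Dual.inD S (S ⧸ J.comap (algebraMap S L)) ⟶ Z⟦i⟧)) := fun i => by
    obtain ⟨E⟩ := nonempty_ext_bc ha hη (A ⧸ n.comap φ) i
    exact ⟨E.trans (precompL ((DerivedCategory.singleFunctor (ModuleCat.{u} S) 0).mapIso
      ek.toModuleIso) (Z⟦i⟧))⟩
  obtain ⟨hN'⟩ := nonempty_extend_quot n.primeCompl J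
  obtain ⟨ηN, huN, -⟩ := exists_loc_single n.primeCompl (ModuleCat.of S (S ⧸ J.comap (algebraMap S L))) hN'
  have hz : ∀ l : ℤ, (l < 0 ∨ (0 : ℤ) + (1 : ℕ) ≤ l) →
      IsZero ((hH S l).obj (sg (ModuleCat.of S (S ⧸ J.comap (algebraMap S L))) 0)) := fun l hl =>
    DTenLib.Point.isZero_sg (show l ≠ 0 by omega)
  have hzf : ∀ l : ℤ, Module.Finite S ((hH S l).obj (sg (ModuleCat.of S (S ⧸ J.comap (algebraMap S L))) 0)) := fun l => by
    rcases eq_or_ne l 0 with rfl | hl
    · exact Module.Finite.equiv (DTenLib.Point.sgH (ModuleCat.of S (S ⧸ J.comap (algebraMap S L))) 0).toLinearEquiv.symm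
    · haveI := ModuleCat.subsingleton_of_isZero
        (DTenLib.Point.isZero_sg (N := ModuleCat.of S (S ⧸ J.comap (algebraMap S L))) hl)
      infer_instance
  refine ⟨Zl, ηl, d, hu, hl, ⟨fun i => finite_HD_loc n.primeCompl hl i (finite_HD_bc ha hω.finite_cohomology hη i),
    ⟨a, (DerivedCategory.isGE_iff Zl a).2 fun i hi => not_tor_HD n.primeCompl hl i ?_⟩,
    fun i hi => subsingleton_hom_loc n.primeCompl huN hl hge hz hzf i ?_, ?_⟩, hdb⟩
  · haveI : Subsingleton (Dual.HD S Z i) :=
      ModuleCat.subsingleton_of_isZero (DerivedCategory.isZero_of_isGE Z a i hi)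
    exact tor_of_subsingleton
  · obtain ⟨E⟩ := eExt i
    haveI : Subsingleton (Ext ω (ModuleCat.of A (A ⧸ n.comap φ)) i) := hvan i hi
    haveI := subsingleton_tensor (A := A) (S := S) (V := Ext ω (ModuleCat.of A (A ⧸ n.comap φ)) i)
    exact E.symm.toEquiv.subsingleton
  · obtain ⟨E⟩ := eExt d
    let e0 : (sg (ModuleCat.of S (S ⧸ J.comap (algebraMap S L))) 0 ⟶ Z⟦d⟧) ≃ₗ[S] S ⧸ J.comap (algebraMap S L) :=
      E.symm.trans ((TensorProduct.AlgebraTensorModule.congr (LinearEquiv.refl S S) line).trans ek)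
    let g0 := e0.symm (Submodule.Quotient.mk 1)
    let η' := ηl⟦d⟧' ≫ ((DRing.restrictD (algebraMap S L)).commShiftIso d).inv.app Zl
    haveI := DerivedCategory.TStructure.t.isGE_shift Z a d (a - d) (by omega)
    have hloc := hom_loc (isLocH_shift hl d) (a := a - d) inferInstance hz hzf
    obtain ⟨v0, hv0⟩ := (huN _).2 (g0 ≫ η')
    let T : L →ₗ[L] (sg (ModuleCat.of L (L ⧸ J)) 0 ⟶ Zl⟦d⟧) := LinearMap.toSpanSingleton L _ v0
    have hsurj : Function.Surjective T := fun f => by
      obtain ⟨s, hs, g, hg⟩ := hloc.2 (ηN ≫ (DRing.restrictD (algebraMap S L)).map f)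
      obtain ⟨r, hr⟩ := Ideal.Quotient.mk_surjective (e0 g)
      have hgr : g = r • g0 := e0.injective (by
        rw [map_smul, e0.apply_symm_apply, ← hr, ← Submodule.Quotient.mk_smul, smul_eq_mul, mul_one]
        rfl)
      have h1 : algebraMap S L s • f = algebraMap S L r • v0 := (huN _).1 (by
        show ηN ≫ _ = ηN ≫ _
        rw [restrictD_smul, restrictD_smul, Linear.comp_smul, Linear.comp_smul, hg, hgr, Linear.smul_comp]
        exact congrArg (r • ·) hv0.symm)
      refine ⟨IsLocalization.mk' L r ⟨s, hs⟩, ?_⟩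
      show IsLocalization.mk' L r (⟨s, hs⟩ : n.primeCompl) • v0 = f
      rw [IsLocalization.mk'_eq_mul_mk'_one, mul_comm, mul_smul, ← h1, ← mul_smul, IsLocalization.mk'_spec,
        map_one, one_smul]
    have hv0' : v0 ≠ 0 := fun h0 => by
      have h1 : g0 ≫ η' = 0 := by rw [← hv0, h0]; simp
      obtain ⟨s, hs, h2⟩ := hloc.1 g0 h1
      have h3 := congrArg e0 h2
      rw [map_smul, e0.apply_symm_apply, map_zero, ← Submodule.Quotient.mk_smul, Submodule.Quotient.mk_eq_zero,
        smul_eq_mul, mul_one, hJ] at h3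
      exact hs h3
    have hker : LinearMap.ker T = J :=
      ((IsLocalRing.maximalIdeal.isMaximal L).eq_of_le (fun htop => hv0' (by
        have h1 : (1 : L) ∈ LinearMap.ker T := htop ▸ Submodule.mem_top
        simpa [T] using h1)) fun r hr => by
        show r • v0 = 0
        rw [← Category.id_comp v0, ← Linear.smul_comp]
        exact (congrArg (· ≫ v0) (DTenLib.Point.smul_id_sg _ hr 0)).trans zero_comp).symm
    exact ⟨((T.quotKerEquivOfSurjective hsurj).symm.trans (Submodule.quotEquivOfEq _ _ hker))⟩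

/-- Flat base change of a dualizing complex when every maximal ideal comes from the base. -/
theorem isDualizing_of_closed_points {ω : Dual.D A} (hω : Dual.IsDualizing A ω) {Z : Dual.D S}
    {η : ω ⟶ (DRing.restrictD φ).obj Z} (hη : IsBC η)
    (hmax : ∀ n : Ideal S, n.IsMaximal → (n.comap φ).IsMaximal ∧ (n.comap φ).map φ = n) :
    Dual.IsDualizing S Z := by
  obtain ⟨a, b, hab⟩ := hω.finite_injective_dimension
  have ha : ω.IsGE a :=
    (DerivedCategory.isGE_iff ω a).2 fun i hi => isZero_of_ext_ring i (hab _ i (Or.inl hi))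
  haveI : ∀ k : {m : Ideal S // m.IsMaximal}, k.1.IsMaximal := fun k => k.2
  choose Zl ηl d hu hl hd hdb using fun k : {m : Ideal S // m.IsMaximal} =>
    exists_pointwise_closed hω hab hη k.1 (hmax k.1 k.2).1 (hmax k.1 k.2).2
  haveI : ∀ k : {m : Ideal S // m.IsMaximal}, IsNoetherianRing (Localization.AtPrime k.1) := fun k =>
    IsLocalization.isNoetherianRing k.1.primeCompl _ inferInstance
  have hM : Covers fun k : {m : Ideal S // m.IsMaximal} => k.1.primeCompl :=
    fun m hm => ⟨⟨m, hm⟩, fun _ hs => hs⟩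
  refine isDualizing_of_local hM hu hl (fun i => finite_HD_bc ha hω.finite_cohomology hη i)
    (fun k => isDualizing_of_pointwise (hd k)) (a := a) (b := b) fun I i hi => ?_
  rcases hi with hi | hi
  · exact subsingleton_ext_lt (exists_isGE hη ha).2 (ModuleCat.of S (S ⧸ I)) i hi
  · refine ext_bounds_of_local hM hl (exists_isGE hη ha).2 i (fun k N _ _ => ?_) (S ⧸ I)
    obtain ⟨N₀, hN₀⟩ := exists_dim_le (A := Localization.AtPrime k.1) _root_.ringKrullDim_lt_top
    exact ext_bounds_n (hd k) hN₀ N i (Or.inr (lt_of_le_of_lt (hdb k) hi))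

end DualBCLib

namespace DualBCLib

open Groth.Agent.DualCxLib FlatExtLib

/-- Flat base change of a dualizing complex along a map which is an isomorphism modulo an ideal in the
Jacobson radical. -/
theorem isDualizing_iso_mod_ideal {A B : Type u} [CommRing A] [CommRing B] [Algebra A B] [IsNoetherianRing A]
    [IsNoetherianRing B] [Module.Flat A B] (I : Ideal A)
    (hs : Function.Surjective ((Ideal.Quotient.mk (I.map (algebraMap A B))).comp (algebraMap A B)))
    (hJ : I.map (algebraMap A B) ≤ (⊥ : Ideal B).jacobson)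
    [DRing.HasLBaseChange (algebraMap A B)] {ω : Dual.D A} (hω : Dual.IsDualizing A ω) :
    Dual.IsDualizing B ((DRing.LBaseChange (algebraMap A B)).obj ω) := by
  obtain ⟨η, hη⟩ := exists_bc_base (S := B) ω
  refine isDualizing_of_closed_points hω hη fun n hn => ?_
  have hIn : I.map (algebraMap A B) ≤ n := hJ.trans (sInf_le ⟨bot_le, hn⟩)
  have hker : RingHom.ker (Ideal.Quotient.mk (I.map (algebraMap A B))) ≤ n := by
    rw [Ideal.mk_ker]; exact hIn
  haveI := Ideal.IsMaximal.map_of_surjective_of_ker_le Ideal.Quotient.mk_surjective hker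
  have hcomap : (n.map (Ideal.Quotient.mk (I.map (algebraMap A B)))).comap
      ((Ideal.Quotient.mk (I.map (algebraMap A B))).comp (algebraMap A B)) = n.comap (algebraMap A B) := by
    rw [← Ideal.comap_comap, Ideal.comap_map_of_surjective' _ Ideal.Quotient.mk_surjective,
      sup_eq_left.2 hker]
  refine ⟨hcomap ▸ Ideal.comap_isMaximal_of_surjective _ hs,
    le_antisymm Ideal.map_comap_le fun x hx => ?_⟩
  obtain ⟨a, ha⟩ := hs (Ideal.Quotient.mk _ x)
  have hd : algebraMap A B a - x ∈ I.map (algebraMap A B) := Ideal.Quotient.eq.1 ha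
  have ha' : algebraMap A B a ∈ n := by
    have h := add_mem (hIn hd) hx
    rwa [sub_add_cancel] at h
  have hIm : I.map (algebraMap A B) ≤ (n.comap (algebraMap A B)).map (algebraMap A B) :=
    Ideal.map_mono (Ideal.map_le_iff_le_comap.1 hIn)
  rw [show x = algebraMap A B a - (algebraMap A B a - x) from (sub_sub_cancel _ _).symm]
  exact sub_mem (Ideal.mem_map_of_mem _ ha') (hIm hd)

end DualBCLib
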