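import Groth.Agent.FlatExtLib.Dual

/-!
# Flat base change of dualizing complexes: the local case
-/

set_option autoImplicit false
set_option linter.all false
set_option maxHeartbeats 1000000

universe u

open CategoryTheory CategoryTheory.Limits
open Groth.Agent DTen
open DTenLib.Point (hH sg)
open scoped TensorProduct

attribute [local instance] HasDerivedCategory.standard

noncomputable section

namespace DualBCLib

open Groth.Agent.DualCxLib FlatExtLib

variable {A : Type u} [CommRing A] {S : Type u} [CommRing S] [Algebra A S] [Module.Flat A S]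

local notation "φ" => algebraMap A S

theorem exists_bc_base [DRing.HasLBaseChange φ] (X : Dual.D A) :
    ∃ η : X ⟶ (DRing.restrictD φ).obj ((DRing.LBaseChange φ).obj X), IsBC η := by
  obtain ⟨P, hP, ⟨e⟩⟩ := DRingLib.exists_good_rep X
  let f : DerivedCategory.Q.obj ((extCx φ).obj P) ≅ (DRing.LBaseChange φ).obj X :=
    (DRingLib.lBaseChangeObjIso φ P hP.1).symm ≪≫ (DRing.LBaseChange φ).mapIso e
  exact ⟨_, (isBC_γ P).comp_iso e.symm f⟩

theorem subsingleton_tensor {V : Type*} [AddCommGroup V] [Module A V] [Subsingleton V] : Subsingleton (S ⊗[A] V) :=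
  subsingleton_of_forall_eq 0 fun z => by
    induction z using TensorProduct.induction_on with
    | zero => rfl
    | tmul s f => rw [Subsingleton.elim f 0, TensorProduct.tmul_zero]
    | add x y hx hy => rw [hx, hy, add_zero]

variable [IsNoetherianRing A]

theorem finite_HD_bc {ω : Dual.D A} {a : ℤ} (ha : ω.IsGE a) (hfin : ∀ i, Module.Finite A (Dual.HD A ω i)) {Z : Dual.D S}
    {η : ω ⟶ (DRing.restrictD φ).obj Z} (hη : IsBC η) (i : ℤ) : Module.Finite S (Dual.HD S Z i) := by
  haveI := hfin i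
  haveI : Module.Finite A (Ext ω (ModuleCat.of A A) i) :=
    Module.Finite.equiv (extHL ω i).symm
  obtain ⟨E⟩ := nonempty_ext_bc ha hη A i
  exact Module.Finite.equiv (E.trans ((precompL ((DerivedCategory.singleFunctor (ModuleCat.{u} S) 0).mapIso
    (TensorProduct.AlgebraTensorModule.rid A S S).toModuleIso) (Z⟦i⟧)).trans (extHL Z i)))

variable [IsLocalRing A] [IsLocalRing S] [IsNoetherianRing S]

theorem isPointwiseDual_bc (hm : (IsLocalRing.maximalIdeal A).map φ = IsLocalRing.maximalIdeal S)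
    {ω : Dual.D A} {d : ℤ} (hω : IsPointwiseDual ω d) {Z : Dual.D S} {η : ω ⟶ (DRing.restrictD φ).obj Z}
    (hη : IsBC η) : IsPointwiseDual Z d := by
  obtain ⟨a, ha⟩ := hω.bddBelow
  obtain ⟨line⟩ := hω.line
  let ek : S ⊗[A] (A ⧸ IsLocalRing.maximalIdeal A) ≃ₗ[S] IsLocalRing.ResidueField S :=
    (Algebra.TensorProduct.quotIdealMapEquivTensorQuot S (IsLocalRing.maximalIdeal A)).symm.toLinearEquiv.trans
      (Submodule.quotEquivOfEq _ _ hm)
  have eExt : ∀ i, Nonempty (S ⊗[A] Ext ω (ModuleCat.of A (A ⧸ IsLocalRing.maximalIdeal A)) i ≃ₗ[S]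
      (Dual.inD S (IsLocalRing.ResidueField S) ⟶ Z⟦i⟧)) := fun i => by
    obtain ⟨E⟩ := nonempty_ext_bc ha hη (A ⧸ IsLocalRing.maximalIdeal A) i
    exact ⟨E.trans (precompL ((DerivedCategory.singleFunctor (ModuleCat.{u} S) 0).mapIso
      ek.toModuleIso) (Z⟦i⟧))⟩
  refine ⟨fun i => finite_HD_bc ha hω.finite hη i, ⟨a, (exists_isGE hη ha).2⟩, fun i hi => ?_, ?_⟩
  · obtain ⟨E⟩ := eExt i
    haveI : Subsingleton (Ext ω (ModuleCat.of A (A ⧸ IsLocalRing.maximalIdeal A)) i) := hω.vanishes i hi
    haveI := subsingleton_tensor (A := A) (S := S) (V := Ext ω (ModuleCat.of A (A ⧸ IsLocalRing.maximalIdeal A)) i)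
    exact E.symm.toEquiv.subsingleton
  · obtain ⟨E⟩ := eExt d
    exact ⟨E.symm.trans ((TensorProduct.AlgebraTensorModule.congr (LinearEquiv.refl S S) line).trans ek)⟩

theorem isDualizing_lBaseChange [DRing.HasLBaseChange φ]
    (hm : (IsLocalRing.maximalIdeal A).map φ = IsLocalRing.maximalIdeal S) {ω : Dual.D A}
    (hω : Dual.IsDualizing A ω) : Dual.IsDualizing S ((DRing.LBaseChange φ).obj ω) := by
  obtain ⟨d, hd⟩ := isPointwiseDual_of_isDualizing hω
  obtain ⟨η, hη⟩ := exists_bc_base (S := S) ω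
  exact isDualizing_of_pointwise (isPointwiseDual_bc hm hd hη)

theorem isNormalized_lBaseChange [DRing.HasLBaseChange φ]
    (hm : (IsLocalRing.maximalIdeal A).map φ = IsLocalRing.maximalIdeal S) {ω : Dual.D A}
    (hω : Dual.IsDualizing A ω) (hn : Dual.IsNormalized A ω) :
    Dual.IsNormalized S ((DRing.LBaseChange φ).obj ω) := by
  obtain ⟨d, hd⟩ := isPointwiseDual_of_isDualizing hω
  obtain ⟨η, hη⟩ := exists_bc_base (S := S) ω
  obtain rfl : d = 0 := by
    by_contra hne
    obtain ⟨l⟩ := hd.line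
    haveI := hn d hne
    exact zero_ne_one (α := IsLocalRing.ResidueField A) (l.symm.toEquiv.subsingleton.elim _ _)
  exact (isPointwiseDual_bc hm hd hη).vanishes

end DualBCLib
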