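import Groth.Agent.FlatExtLib.Cx
import Groth.Agent.DualBCLib.Local
import Mathlib.RingTheory.Finiteness.Descent

/-!
# Faithfully flat descent of dualizing complexes
-/

set_option autoImplicit false
set_option linter.all false
set_option maxHeartbeats 1000000

universe u

open CategoryTheory CategoryTheory.Limits
open Groth.Agent DTen
open DTenLib.Point (hH sg)
open scoped TensorProduct

attribute [local instance] HasDerivedCategory.standard

noncomputable section

namespace DualBCLib

open Groth.Agent.DualCxLib FlatExtLib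

variable {A : Type u} [CommRing A] {S : Type u} [CommRing S] [Algebra A S] [Module.Flat A S]

local notation "φ" => algebraMap A S

theorem exists_bc_univ_base [DRing.HasLBaseChange φ] (X : Dual.D A) :
    ∃ η : X ⟶ (DRing.restrictD φ).obj ((DRing.LBaseChange φ).obj X), IsBC η ∧ IsUniv φ η := by
  obtain ⟨P, hP, ⟨e⟩⟩ := DRingLib.exists_good_rep X
  let f : DerivedCategory.Q.obj ((extCx φ).obj P) ≅ (DRing.LBaseChange φ).obj X :=
    (DRingLib.lBaseChangeObjIso φ P hP.1).symm ≪≫ (DRing.LBaseChange φ).mapIso e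
  exact ⟨_, (isBC_γ P).comp_iso e.symm f, (isUniv_γ_flat P).comp_iso e.symm f⟩

variable [IsNoetherianRing A]

/-- Being dualizing descends along faithfully flat maps. -/
theorem isDualizing_descent [Module.FaithfullyFlat A S] {K : Dual.D A} {Z : Dual.D S}
    {η : K ⟶ (DRing.restrictD φ).obj Z} (hη : IsBC η) (hu : IsUniv φ η) (hZ : Dual.IsDualizing S Z) :
    Dual.IsDualizing A K := by
  obtain ⟨a, b, hab⟩ := hZ.finite_injective_dimension
  have hZge : Z.IsGE a :=
    (DerivedCategory.isGE_iff Z a).2 fun i hi => isZero_of_ext_ring i (hab _ i (Or.inl hi))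
  have hK : K.IsGE a := (DerivedCategory.isGE_iff K a).2 fun i hi => by
    obtain ⟨F, -⟩ := hη i
    obtain ⟨e⟩ := DRingLib.exists_homology_iso_mapDerived (ModuleCat.restrictScalars.{u} φ) Z i
    haveI := ModuleCat.subsingleton_of_isZero
      (((ModuleCat.restrictScalars.{u} φ).map_isZero (DerivedCategory.isZero_of_isGE Z a i hi)).of_iso e)
    haveI : Subsingleton (S ⊗[A] (hH A i).obj K) := F.toEquiv.subsingleton
    haveI := Module.FaithfullyFlat.lTensor_reflects_triviality A S ((hH A i).obj K)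
    exact ModuleCat.isZero_of_subsingleton _
  have hext : ∀ (I : Ideal A) (i : ℤ), (i < a ∨ b < i) → Subsingleton (Dual.inD A (A ⧸ I) ⟶ K⟦i⟧) := fun I i hi => by
    obtain ⟨E⟩ := nonempty_ext_bc hK hη (A ⧸ I) i
    haveI : Subsingleton (Ext Z (ModuleCat.of S (S ⊗[A] (A ⧸ I))) i) := hab _ i hi
    haveI : Subsingleton (S ⊗[A] Ext K (ModuleCat.of A (A ⧸ I)) i) := E.toEquiv.subsingleton
    exact Module.FaithfullyFlat.lTensor_reflects_triviality A S (Ext K (ModuleCat.of A (A ⧸ I)) i)
  have hfin : ∀ i, Module.Finite A (Dual.HD A K i) := fun i => by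
    obtain ⟨E⟩ := nonempty_ext_bc hK hη A i
    haveI := hZ.finite_cohomology i
    haveI : Module.Finite S (S ⊗[A] Ext K (ModuleCat.of A A) i) :=
      Module.Finite.equiv ((E.trans ((precompL ((DerivedCategory.singleFunctor (ModuleCat.{u} S) 0).mapIso
        (TensorProduct.AlgebraTensorModule.rid A S S).toModuleIso) (Z⟦i⟧)).trans (extHL Z i))).symm)
    haveI : Module.Finite A (Ext K (ModuleCat.of A A) i) :=
      Module.Finite.of_finite_tensorProduct_of_faithfullyFlat S
    exact Module.Finite.equiv (extHL K i)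
  have hX : ∀ i, (i < a ∨ a + ((b + 1 - a).toNat : ℤ) ≤ i) → IsZero ((hH A i).obj K) := fun i hi =>
    isZero_of_ext_ring i (ext_of_hasInjAmplitudeIn (hasInjAmplitudeIn_of_ext hext) _ i (by omega))
  have hA : ∀ j, Function.Bijective (bc (theta η) (ModuleCat.of A A) j) := fun j => by
    obtain ⟨F, hF⟩ := hη j
    exact bijective_bc_ring (theta η) j F F.bijective (map_add F) hF
  have hb : ∀ i, Function.Bijective (bcX (theta η) K i) :=
    bijective_bcX (theta η) hK (exists_isGE hη hK).1 hA hX hfin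
  refine ⟨inferInstance, ⟨a, b, fun N _ _ i hi =>
    ext_of_hasInjAmplitudeIn (hasInjAmplitudeIn_of_ext hext) N i hi⟩, hfin, ?_, fun i hi => ?_⟩
  · let ε : (K ⟶ K) ≃ₗ[A] (K ⟶ K⟦(0 : ℤ)⟧) := postcompL K ((shiftFunctorZero (Dual.D A) ℤ).symm.app K)
    let ε' : (K ⟶ (DRing.restrictD φ).obj Z) ≃ₗ[A] (K ⟶ ((DRing.restrictD φ).obj Z)⟦(0 : ℤ)⟧) :=
      postcompL K ((shiftFunctorZero (Dual.D A) ℤ).symm.app _)
    let e : A →ₗ[A] (K ⟶ K⟦(0 : ℤ)⟧) := ε.toLinearMap.comp (LinearMap.toSpanSingleton A (K ⟶ K) (𝟙 K))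
    let ν : S → (K ⟶ (DRing.restrictD φ).obj Z) := fun s => η ≫ (DRing.restrictD φ).map (s • 𝟙 Z)
    have hν : Function.Bijective ν := (hu Z).comp hZ.toEnd_bijective
    have key : ∀ z : S ⊗[A] A,
        bcX (theta η) K 0 (e.lTensor S z) = ε' (ν (TensorProduct.rid A S z)) := fun z => by
      induction z using TensorProduct.induction_on with
      | zero =>
        rw [map_zero, map_zero, map_zero]
        show (0 : K ⟶ _) = ε' (η ≫ (DRing.restrictD φ).map ((0 : S) • 𝟙 Z))
        rw [zero_smul, Functor.map_zero, comp_zero, map_zero]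
      | tmul s r =>
        rw [TensorProduct.rid_tmul]
        show ε (r • 𝟙 K) ≫ (theta η s)⟦(0 : ℤ)⟧' = ε' (theta η (r • s))
        simp only [map_smul, ε, ε', postcompL, Linear.homCongr_apply, Iso.refl_inv, Category.id_comp,
          Iso.app_hom, Linear.smul_comp]
        exact congrArg (r • ·) ((shiftFunctorZero (Dual.D A) ℤ).inv.naturality (theta η s)).symm
      | add x y hx hy =>
        simp only [map_add, hx, hy]
        show ε' (ν _) + ε' (ν _) = ε' (ν _)
        rw [← map_add]
        simp only [ν, add_smul, Functor.map_add, Preadditive.comp_add]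
    have h1 : Function.Bijective (e.lTensor S) := by
      refine (Function.Bijective.of_comp_iff' (hb 0) _).1 ?_
      rw [show ⇑(bcX (theta η) K 0) ∘ ⇑(e.lTensor S) = (⇑ε' ∘ ν) ∘ ⇑(TensorProduct.rid A S) from funext key]
      exact (ε'.bijective.comp hν).comp (TensorProduct.rid A S).bijective
    have h2 : Function.Bijective e :=
      ⟨(Module.FaithfullyFlat.lTensor_injective_iff_injective A S e).1 h1.1,
        (Module.FaithfullyFlat.lTensor_surjective_iff_surjective A S e).1 h1.2⟩
    exact (Function.Bijective.of_comp_iff' ε.bijective _).1 h2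
  · haveI := hZ.ext_self_subsingleton i hi
    let c := ((DRing.restrictD φ).commShiftIso i).app Z
    haveI : Subsingleton (K ⟶ (DRing.restrictD φ).obj (Z⟦i⟧)) :=
      (Equiv.ofBijective _ (hu (Z⟦i⟧))).symm.subsingleton
    haveI : Subsingleton (K ⟶ ((DRing.restrictD φ).obj Z)⟦i⟧) :=
      ⟨fun x y => (cancel_mono c.inv).1
        (Subsingleton.elim (α := K ⟶ (DRing.restrictD φ).obj (Z⟦i⟧)) _ _)⟩
    haveI : Subsingleton (S ⊗[A] (K ⟶ K⟦i⟧)) := (hb i).1.subsingleton
    exact Module.FaithfullyFlat.lTensor_reflects_triviality A S (K ⟶ K⟦i⟧)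

end DualBCLib
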