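import Groth.Agent.DualBCLib.GorFibre
import Groth.Agent.DualCxLib.FinLen
import Groth.Agent.CohenLib.FlatUnramified
import Groth.Agent.GorLib.Fibres
import Mathlib.RingTheory.Ideal.AssociatedPrime.Localization
import Groth.Prelude.Def_EGA4b

/-!
# Formal fibres of rings with dualizing complexes are Gorenstein
-/

set_option autoImplicit false
set_option linter.all false
set_option maxHeartbeats 1000000

universe u

open CategoryTheory CategoryTheory.Limits
open Groth.Agent
open DTenLib.Point (hH sg)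
open scoped TensorProduct

attribute [local instance] HasDerivedCategory.standard

noncomputable section

namespace DualBCLib

open Groth.Agent.DualCxLib FlatExtLib

variable {S : Type u} [CommRing S] [IsLocalRing S] [IsNoetherianRing S] {Z : Dual.D S}

theorem gorenstein_quot_depth_zero (hZ : Dual.IsDualizing S Z) (J : Ideal S) (hJ : J ≤ IsLocalRing.maximalIdeal S)
    (d : ℤ) (hvan : ∀ i, i ≠ d → Subsingleton (Ext Z (ModuleCat.of S (S ⧸ J)) i))
    (line : Ext Z (ModuleCat.of S (S ⧸ J)) d ≃ₗ[S] (S ⧸ J))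
    (s₀ : S ⧸ J) (hs₀ : s₀ ≠ 0) (hsoc₀ : ∀ r ∈ IsLocalRing.maximalIdeal S, r • s₀ = 0) :
    LocCoh.IsGorensteinLocalRing (S ⧸ J) := by
  obtain ⟨a, ha⟩ := isGE_dualizing hZ
  have hlow : ∀ (k : ℕ) (i : ℤ), i < a + k → i < d → ∀ (N : ModuleCat.{u} S) [Module.Finite S N],
      (∀ r ∈ J, ∀ x : N, r • x = 0) → Subsingleton (Ext Z N i) := by
    intro k
    induction k with
    | zero => exact fun i hi _ N _ _ => subsingleton_ext_lt ha N i (by simpa using hi)
    | succ k ih =>
      intro i hi hid N _ hN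
      haveI := hvan i (by omega)
      refine subsingleton_of_forall_eq 0 fun g => rep_injective (fun N _ hN => ih (i - 1) (by push_cast at hi; omega) (by omega) N hN) hN ?_
      rw [map_zero]
      exact LinearMap.ext fun x => Subsingleton.elim (α := Ext Z (ModuleCat.of S (S ⧸ J)) i) _ _
  have hlow' : ∀ (N : ModuleCat.{u} S) [Module.Finite S N], (∀ r ∈ J, ∀ x : N, r • x = 0) →
      Subsingleton (Ext Z N (d - 1)) := hlow (d - 1 - a + 1).toNat (d - 1) (by omega) (by omega)
  have hkill : ∀ (q : Ideal S), J ≤ q → ∀ r ∈ J, ∀ x : ModuleCat.of S (S ⧸ q), r • x = 0 := fun q hq r hr x => by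
    obtain ⟨y, rfl⟩ := Submodule.Quotient.mk_surjective q x
    exact (Submodule.Quotient.mk_eq_zero q).2 (q.mul_mem_right y (hq hr))
  -- an element with prime annihilator gives the degree of that prime
  have key : ∀ (q : PrimeSpectrum S), J ≤ q.asIdeal → ∀ y : S ⧸ J, (∀ r : S, r • y = 0 ↔ r ∈ q.asIdeal) →
      deg hZ q = d := fun q hq y hy => by
    by_contra hne
    let χ : (S ⧸ q.asIdeal) →ₗ[S] Ext Z (ModuleCat.of S (S ⧸ J)) d :=
      line.symm.toLinearMap.comp (q.asIdeal.liftQ (LinearMap.toSpanSingleton S _ y) fun r hr => (hy r).2 hr)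
    obtain ⟨g, hg⟩ := rep_surjective hlow' (hkill q.asIdeal hq) χ
    obtain ⟨s, hs, hsg⟩ := (isDeg_deg hZ q).1 d (Ne.symm hne) g
    have h := congrArg (fun ψ => line (ψ (Submodule.Quotient.mk 1))) (congrArg (rep (hkill q.asIdeal hq)) hsg)
    simp only [map_smul, hg, map_zero, LinearMap.smul_apply, LinearMap.zero_apply] at h
    refine hs ((hy s).1 ?_)
    rw [← h]
    show s • y = s • line (line.symm ((1 : S) • y))
    rw [line.apply_symm_apply, one_smul]
  haveI : Nontrivial (S ⧸ J) :=
    Ideal.Quotient.nontrivial_iff.2 (ne_top_of_le_ne_top (IsLocalRing.maximalIdeal.isMaximal S).ne_top hJ)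
  haveI : IsLocalRing (S ⧸ J) := IsLocalRing.of_surjective' (Ideal.Quotient.mk J) Ideal.Quotient.mk_surjective
  have hdm : deg hZ (closedPt S) = d := key (closedPt S) hJ s₀ fun r => ⟨fun hr => by
    by_contra hrm
    exact hs₀ ((IsUnit.smul_eq_zero (IsLocalRing.notMem_maximalIdeal.1 hrm)).1 hr), hsoc₀ r⟩
  haveI : Ring.KrullDimLE 0 (S ⧸ J) := by
    refine Ring.KrullDimLE.mk₀ fun I hI => ?_
    obtain ⟨q, hq, hqI⟩ := Ideal.exists_minimalPrimes_le (J := I) (I := (⊥ : Ideal (S ⧸ J))) bot_le
    have hass : q ∈ associatedPrimes (S ⧸ J) (S ⧸ J) := Module.associatedPrimes.minimalPrimes_annihilator_subset_associatedPrimes _ _ (by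
      rwa [Module.annihilator_eq_bot.2 inferInstance])
    obtain ⟨hqp, y, hy⟩ := isAssociatedPrime_iff.1 hass
    let q' : PrimeSpectrum S := ⟨q.comap (Ideal.Quotient.mk J), inferInstance⟩
    have hy' : ∀ r : S, r • y = 0 ↔ r ∈ q'.asIdeal := fun r => by
      show _ ↔ Ideal.Quotient.mk J r ∈ q
      rw [hy, Submodule.mem_colon_singleton, Submodule.mem_bot]
      rfl
    have hJq : J ≤ q'.asIdeal := fun r hr => by
      show Ideal.Quotient.mk J r ∈ q
      rw [Ideal.Quotient.eq_zero_iff_mem.2 hr]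
      exact zero_mem q
    have hqm : q'.asIdeal = IsLocalRing.maximalIdeal S := by
      by_contra hne
      have hlt : q' < closedPt S := lt_of_le_of_ne (le_closedPt q') fun h => hne (congrArg PrimeSpectrum.asIdeal h)
      have h1 := deg_strictMono hZ hlt
      rw [hdm, key q' hJq y hy'] at h1
      exact lt_irrefl _ h1
    have hqmax : q.IsMaximal := by
      have : q = (IsLocalRing.maximalIdeal S).map (Ideal.Quotient.mk J) := by
        rw [← hqm]
        exact (Ideal.map_comap_of_surjective _ Ideal.Quotient.mk_surjective q).symm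
      rw [this, IsLocalRing.map_maximalIdeal_of_surjective _ Ideal.Quotient.mk_surjective]
      infer_instance
    exact (hqmax.eq_of_le hI.ne_top hqI) ▸ hqmax
  haveI : IsArtinianRing (S ⧸ J) := isArtinianRing_iff_krullDimLE_zero.2 inferInstance
  refine GorLib.gorenstein_iff_socCyclic.2 ?_
  obtain ⟨d₀, hvan₀, ⟨line₀⟩⟩ := ext_residueField_single_degree Z hZ (IsLocalRing.maximalIdeal S)
  have hd₀ : d₀ = d := by
    by_contra hne
    refine (isDeg_deg hZ (closedPt S)).2 ?_
    rw [hdm]
    haveI : Subsingleton (Ext Z (ModuleCat.of S (S ⧸ (closedPt S).asIdeal)) d) := hvan₀ d (Ne.symm hne)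
    exact van_of_subsingleton
  subst hd₀
  let R := rep (ω := Z) (i := d₀) (hkill (IsLocalRing.maximalIdeal S) hJ)
  have hRi : Function.Injective R := rep_injective hlow' _
  have hRs : Function.Surjective R := rep_surjective hlow' _
  let g₀ : Ext Z (ModuleCat.of S (S ⧸ IsLocalRing.maximalIdeal S)) d₀ := line₀.symm (Submodule.Quotient.mk 1)
  let s : S ⧸ J := line (R g₀ (Submodule.Quotient.mk 1))
  have hall : ∀ x : S ⧸ J, (∀ r ∈ IsLocalRing.maximalIdeal S, r • x = 0) → ∃ c : S, x = c • s := fun x hx => by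
    obtain ⟨g, hg⟩ := hRs (line.symm.toLinearMap.comp
      ((IsLocalRing.maximalIdeal S).liftQ (LinearMap.toSpanSingleton S _ x) fun r hr => hx r hr))
    obtain ⟨c, hc⟩ := Submodule.Quotient.mk_surjective _ (line₀ g)
    have hgc : g = c • g₀ := line₀.injective (by
      rw [map_smul, line₀.apply_symm_apply, ← Submodule.Quotient.mk_smul, smul_eq_mul, mul_one]
      exact hc.symm)
    refine ⟨c, ?_⟩
    have h := congrArg (fun ψ => line (ψ (Submodule.Quotient.mk 1))) hg
    simp only [hgc, map_smul, LinearMap.smul_apply] at h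
    refine Eq.trans ?_ h.symm
    show x = line (line.symm ((1 : S) • x))
    rw [line.apply_symm_apply, one_smul]
  refine ⟨s, fun h0 => hs₀ ?_, fun t ht => ?_, fun x hx => ?_⟩
  · obtain ⟨c, hc⟩ := hall s₀ hsoc₀
    rw [hc, h0, smul_zero]
  · obtain ⟨r, rfl⟩ := Ideal.Quotient.mk_surjective t
    have hr : r ∈ IsLocalRing.maximalIdeal S := fun hu => ht (hu.map _)
    show r • line (R g₀ (Submodule.Quotient.mk 1)) = 0
    rw [← map_smul, ← LinearMap.smul_apply, ← map_smul, smul_ext_eq_zero hr, map_zero, LinearMap.zero_apply, map_zero]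
  · obtain ⟨c, hc⟩ := hall x fun r hr => hx (Ideal.Quotient.mk J r) (by
      rw [← IsLocalRing.map_maximalIdeal_of_surjective _ Ideal.Quotient.mk_surjective]
      exact Ideal.mem_map_of_mem _ hr)
    rw [hc]
    exact Ideal.mem_span_singleton'.2 ⟨Ideal.Quotient.mk J c, rfl⟩

/-- A quotient whose `Ext` into a dualizing complex is one copy of itself is Gorenstein. -/
theorem gorenstein_quot_of_line (hZ : Dual.IsDualizing S Z) : ∀ (N : ℕ) (J : Ideal S),
    J ≤ IsLocalRing.maximalIdeal S → ringKrullDim (S ⧸ J) ≤ N → ∀ d : ℤ,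
    (∀ i, i ≠ d → Subsingleton (Ext Z (ModuleCat.of S (S ⧸ J)) i)) →
    (Ext Z (ModuleCat.of S (S ⧸ J)) d ≃ₗ[S] (S ⧸ J)) → LocCoh.IsGorensteinLocalRing (S ⧸ J) := by
  intro N
  induction N using Nat.strong_induction_on with
  | _ N ih =>
  intro J hJ hdim d hvan line
  haveI : Nontrivial (S ⧸ J) :=
    Ideal.Quotient.nontrivial_iff.2 (ne_top_of_le_ne_top (IsLocalRing.maximalIdeal.isMaximal S).ne_top hJ)
  haveI : IsLocalRing (S ⧸ J) := IsLocalRing.of_surjective' (Ideal.Quotient.mk J) Ideal.Quotient.mk_surjective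
  by_cases hdis : Disjoint (IsLocalRing.maximalIdeal (S ⧸ J) : Set (S ⧸ J)) (nonZeroDivisors (S ⧸ J))
  · obtain ⟨-, s₀, hs₀, hs₀'⟩ := SetLike.lt_iff_le_and_exists.1
      (Ideal.bot_lt_annihilator_of_disjoint_nonZeroDivisors hdis)
    refine gorenstein_quot_depth_zero hZ J hJ d hvan line s₀ (fun h => hs₀' (h ▸ zero_mem _)) fun r hr => ?_
    have hr' : Ideal.Quotient.mk J r ∈ IsLocalRing.maximalIdeal (S ⧸ J) := by
      rw [← IsLocalRing.map_maximalIdeal_of_surjective _ Ideal.Quotient.mk_surjective]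
      exact Ideal.mem_map_of_mem _ hr
    show Ideal.Quotient.mk J r * s₀ = 0
    rw [mul_comm]
    exact (Submodule.mem_annihilator.1 hs₀ _ hr')
  · obtain ⟨f, hfm, hfn⟩ := Set.not_disjoint_iff.1 hdis
    have hf : IsSMulRegular (S ⧸ J) f := fun y z h => (mul_cancel_left_mem_nonZeroDivisors hfn).1 h
    obtain ⟨x, rfl⟩ := Ideal.Quotient.mk_surjective f
    have hxm : x ∈ IsLocalRing.maximalIdeal S := fun hu => hfm (hu.map _)
    let J' := J ⊔ Ideal.span {x}
    have hJ' : J' ≤ IsLocalRing.maximalIdeal S := sup_le hJ ((Ideal.span_singleton_le_iff_mem _).2 hxm)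
    let e : ((S ⧸ J) ⧸ Ideal.span {Ideal.Quotient.mk J x}) ≃+* S ⧸ J' :=
      (Ideal.quotEquivOfEq (by rw [Ideal.map_span, Set.image_singleton])).trans
        (DoubleQuot.quotQuotEquivQuotSup J (Ideal.span {x}))
    obtain ⟨hvan', ⟨line'⟩⟩ := exists_quotient_step J x hf d hvan line
    obtain ⟨M, hM, hMN⟩ : ∃ M : ℕ, ringKrullDim (S ⧸ J') ≤ M ∧ M < N := by
      haveI : Nontrivial (S ⧸ J') :=
        Ideal.Quotient.nontrivial_iff.2 (ne_top_of_le_ne_top (IsLocalRing.maximalIdeal.isMaximal S).ne_top hJ')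
      have h1 : ringKrullDim (S ⧸ J') + 1 ≤ (N : WithBot ℕ∞) := by
        rw [← ringKrullDim_eq_of_ringEquiv e, ringKrullDim_quotient_span_singleton_succ_eq_ringKrullDim hf hfm]
        exact hdim
      have h0 : (0 : WithBot ℕ∞) ≤ ringKrullDim (S ⧸ J') := ringKrullDim_nonneg_of_nontrivial
      revert h1 h0
      generalize ringKrullDim (S ⧸ J') = D
      induction D using WithBot.recBotCoe with
      | bot => intro _ h0; simp at h0
      | coe D =>
        induction D using ENat.recTopCoe with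
        | top =>
          intro h
          have h' : ((⊤ : ℕ∞) + 1 : ℕ∞) ≤ ((N : ℕ) : ℕ∞) := by exact_mod_cast h
          rw [top_add, top_le_iff] at h'
          exact absurd h' (ENat.natCast_ne_top _)
        | coe D =>
          intro h _
          have : D + 1 ≤ N := by exact_mod_cast h
          exact ⟨D, le_rfl, this⟩
    exact (GorLib.gorenstein_quotient_iff hf hfm).2
      (GorLib.gorenstein_of_ringEquiv e (ih M hMN J' hJ' hM (d + 1) hvan' line'))

/-- Formal fibres of a ring with a dualizing complex are Gorenstein. -/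
theorem gorensteinRing_formalFibre {A : Type u} [CommRing A] [IsLocalRing A] [IsNoetherianRing A] {ω : Dual.D A}
    (hω : Dual.IsDualizing A ω) (p : Ideal A) [p.IsPrime] :
    LocCoh.IsGorensteinRing (EGA4.formalFibre A p) := by
  obtain ⟨_, _, _, hm, -⟩ := CohenLib.completion_facts A (IsLocalRing.maximalIdeal A)
    (IsLocalRing.maximalIdeal.isMaximal A).ne_top
  obtain ⟨d, hd⟩ := isPointwiseDual_of_isDualizing hω
  obtain ⟨Z, η, hη⟩ := exists_bc (S := EGA4.Cpl A) ω
  have hZ := isDualizing_of_pointwise (isPointwiseDual_bc hm hd hη)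
  obtain ⟨a, b, hab⟩ := hω.finite_injective_dimension
  haveI : IsNoetherianRing (p.Fiber (EGA4.Cpl A)) := by
    haveI : IsNoetherianRing (EGA4.Cpl A ⊗[A] p.ResidueField) :=
      Algebra.EssFiniteType.isNoetherianRing (EGA4.Cpl A) _
    exact isNoetherianRing_of_ringEquiv _ (Algebra.TensorProduct.comm A (EGA4.Cpl A) p.ResidueField).toRingEquiv
  refine GorLib.gorensteinRing_fiber fun r _ hr => ?_
  haveI : IsNoetherianRing (Localization.AtPrime r) :=
    IsLocalization.isNoetherianRing r.primeCompl _ inferInstance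
  obtain ⟨Zl, ηl, d', hu, hl, -, -, hvan, ⟨line⟩⟩ := exists_fibre_line hω hab hη r
  have hZl := isDualizing_loc r.primeCompl hZ hu hl
  obtain ⟨N, hN⟩ := exists_dim_le (A := Localization.AtPrime r) _root_.ringKrullDim_lt_top
  have h := gorenstein_quot_of_line hZl N _ ?_ ((ringKrullDim_quotient_le _).trans hN) d' hvan line
  · refine GorLib.gorenstein_of_ringEquiv (Ideal.quotEquivOfEq ?_) h
    subst hr
    rw [Ideal.map_map, ← IsScalarTower.algebraMap_eq]
  · rw [← Localization.AtPrime.map_eq_maximalIdeal]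
    exact Ideal.map_mono Ideal.map_comap_le

end DualBCLib
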