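import Groth.Agent.DualBCLib.GorFibre
import Groth.Agent.DualBCLib.Descent
import Groth.Agent.DualCxLib.DimFn
import Groth.Agent.GorLib.Fibres
import Groth.Agent.GorLib.Polynomial
import Mathlib.RingTheory.KrullDimension.Polynomial

/-!
# Dualizing complexes and flat maps with Gorenstein fibres
-/

set_option autoImplicit false
set_option linter.all false
set_option maxHeartbeats 1000000

universe u

open CategoryTheory CategoryTheory.Limits
open Groth.Agent
open scoped TensorProduct Polynomial

attribute [local instance] HasDerivedCategory.standard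

noncomputable section

namespace DualBCLib

open Groth.Agent.DualCxLib FlatExtLib

theorem dim_finiteType_lt_top {A B : Type u} [CommRing A] [CommRing B] [Algebra A B] [IsNoetherianRing A]
    [Algebra.FiniteType A B] (h : ringKrullDim A < ⊤) : ringKrullDim B < ⊤ := by
  obtain ⟨n, f, hf⟩ := Algebra.FiniteType.iff_quotient_mvPolynomial''.1 ‹Algebra.FiniteType A B›
  obtain ⟨N, hN⟩ := exists_dim_le h
  refine lt_of_le_of_lt ((ringKrullDim_le_of_surjective f.toRingHom hf).trans ?_)
    (WithBot.coe_lt_coe.2 (ENat.natCast_lt_top (N + n)))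
  rw [MvPolynomial.ringKrullDim_of_isNoetherianRing, Nat.card_eq_fintype_card, Fintype.card_fin]
  exact (add_le_add hN le_rfl).trans_eq (by norm_cast)

/-- Flat base change of a dualizing complex along a map with Gorenstein fibre rings. -/
theorem isDualizing_of_fibreRings {A B : Type u} [CommRing A] [CommRing B] [Algebra A B] [IsNoetherianRing A]
    [IsNoetherianRing B] [Module.Flat A B] [DRing.HasLBaseChange (algebraMap A B)] {ω : Dual.D A}
    (hω : Dual.IsDualizing A ω) (hdim : ringKrullDim B < ⊤)
    (hF : ∀ (p : Ideal A) [p.IsPrime], LocCoh.IsGorensteinRing (B ⊗[A] p.ResidueField)) :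
    Dual.IsDualizing B ((DRing.LBaseChange (algebraMap A B)).obj ω) := by
  obtain ⟨η, hη⟩ := exists_bc_base (S := B) ω
  refine isDualizing_of_gorenstein_fibres hω hη hdim fun n => ?_
  intro hn
  haveI := hn.isPrime
  exact GorLib.gorenstein_fibre_loc (p := n.comap (algebraMap A B))
    (GorLib.gorensteinRing_of_ringEquiv (Algebra.TensorProduct.comm A _ B).toRingEquiv (hF _)) n rfl

/-- Dualizing complexes and faithfully flat maps with Gorenstein fibre rings. -/
theorem isDualizing_iff_of_fibreRings {A B : Type u} [CommRing A] [CommRing B] [Algebra A B] [IsNoetherianRing A]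
    [IsNoetherianRing B] [Module.FaithfullyFlat A B] [Algebra.FiniteType A B]
    [DRing.HasLBaseChange (algebraMap A B)]
    (hF : ∀ (p : Ideal A) [p.IsPrime], LocCoh.IsGorensteinRing (B ⊗[A] p.ResidueField)) (K : Dual.D A) :
    Dual.IsDualizing A K ↔ Dual.IsDualizing B ((DRing.LBaseChange (algebraMap A B)).obj K) := by
  refine ⟨fun hK => isDualizing_of_fibreRings hK (dim_finiteType_lt_top (A := A) ?_) hF, fun hB => ?_⟩
  · exact Groth.Agent.DualCxLib.ringKrullDim_lt_top hK
  · obtain ⟨η, hη, hu⟩ := exists_bc_univ_base (S := B) K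
    exact isDualizing_descent hη hu hB

theorem gorenstein_fibre_polynomial {A : Type u} [CommRing A] (p : Ideal A) [p.IsPrime] :
    LocCoh.IsGorensteinRing (A[X] ⊗[A] p.ResidueField) :=
  GorLib.gorensteinRing_of_ringEquiv
    ((Algebra.TensorProduct.comm A A[X] p.ResidueField).toRingEquiv.trans (polyEquivTensor A p.ResidueField).symm.toRingEquiv)
    (GorLib.gorensteinRing_polynomial GorLib.gorensteinRing_of_field)

end DualBCLib
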